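import Mathlib.RepresentationTheory.Basic
import Mathlib.RingTheory.SimpleModule.IsAlgClosed
import Mathlib.RingTheory.Jacobson.Semiprimary
import Mathlib.GroupTheory.PGroup
import Mathlib.GroupTheory.OrderOfElement
import Mathlib.LinearAlgebra.Matrix.Charpoly.Coeff
import Mathlib.Algebra.CharP.Lemmas
import Mathlib.LinearAlgebra.Dimension.Constructions
import Mathlib.Data.Nat.Totient
import Mathlib.FieldTheory.Finite.Basic

/-!
Brauer's count: over an algebraically closed field of characteristic `p` a finite group has as many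
simple modules as classes of elements of order prime to `p`.
-/

set_option autoImplicit false

namespace CfsgLib.ModularCount

universe u v w w'

variable {k : Type u} [Field k] {G : Type v} [Group G]
  {V : Type w} [AddCommGroup V] [Module k V] {V' : Type w'} [AddCommGroup V'] [Module k V']

/-- an invariant subspace -/
def Invar (ρ : Representation k G V) (W : Submodule k V) : Prop := ∀ g, ∀ v ∈ W, ρ g v ∈ W

/-- nonzero without a proper nonzero invariant subspace -/
def IsIrred (ρ : Representation k G V) : Prop :=
  (∃ v : V, v ≠ 0) ∧ ∀ W, Invar ρ W → W = ⊥ ∨ W = ⊤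

/-- isomorphy of representations -/
def IsoRep (ρ : Representation k G V) (σ : Representation k G V') : Prop :=
  ∃ f : V ≃ₗ[k] V', ∀ g v, f (ρ g v) = σ g (f v)

theorem IsoRep.symm {ρ : Representation k G V} {σ : Representation k G V'} (h : IsoRep ρ σ) :
    IsoRep σ ρ := by
  obtain ⟨f, hf⟩ := h
  exact ⟨f.symm, fun g v => f.injective (by rw [hf, f.apply_symm_apply, f.apply_symm_apply])⟩

theorem IsoRep.trans {V'' : Type*} [AddCommGroup V''] [Module k V''] {ρ : Representation k G V}
    {σ : Representation k G V'} {τ : Representation k G V''} (h : IsoRep ρ σ) (h' : IsoRep σ τ) :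
    IsoRep ρ τ := by
  obtain ⟨f, hf⟩ := h
  obtain ⟨f', hf'⟩ := h'
  exact ⟨f.trans f', fun g v => by simp [hf, hf']⟩

/-- A sum of an invariant function over a set permuted by a `p`-group lives on the fixed points. -/
theorem sum_eq_sum_fixed {p : ℕ} [Fact p.Prime] [CharP k p] {Γ X : Type*} [Group Γ] [MulAction Γ X]
    [Fintype X] (hΓ : IsPGroup p Γ) (f : X → k) (hf : ∀ (γ : Γ) x, f (γ • x) = f x)
    (s : Finset X) (hs : ∀ x, x ∈ s ↔ x ∈ MulAction.fixedPoints Γ X) :
    ∑ x, f x = ∑ x ∈ s, f x := by
  classical
  rw [← Finset.sum_fiberwise_of_maps_to (t := Finset.univ.image f)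
      (fun x _ => Finset.mem_image_of_mem f (Finset.mem_univ x)),
    ← Finset.sum_fiberwise_of_maps_to (s := s) (t := Finset.univ.image f)
      (fun x _ => Finset.mem_image_of_mem f (Finset.mem_univ x))]
  refine Finset.sum_congr rfl fun c _ => ?_
  rw [Finset.sum_congr rfl (fun x hx => (Finset.mem_filter.1 hx).2),
    Finset.sum_congr rfl (fun x hx => (Finset.mem_filter.1 hx).2), Finset.sum_const, Finset.sum_const,
    nsmul_eq_mul, nsmul_eq_mul]
  congr 1
  let P : SubMulAction Γ X := ⟨{x | f x = c}, fun γ x hx => (hf γ x).trans hx⟩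
  haveI : Finite P := Subtype.finite
  haveI := hΓ
  have h := hΓ.card_modEq_card_fixedPoints P
  refine (CharP.natCast_eq_natCast k p).2 ?_
  have e1 : Nat.card P = (Finset.univ.filter fun x => f x = c).card := by
    rw [← Fintype.card_coe, ← Nat.card_eq_fintype_card]
    exact Nat.card_congr (Equiv.subtypeEquivRight fun x => by show f x = c ↔ _; simp)
  have e2 : Nat.card (MulAction.fixedPoints Γ P) = (s.filter fun x => f x = c).card := by
    rw [← Fintype.card_coe, ← Nat.card_eq_fintype_card]
    refine Nat.card_congr ⟨fun x => ⟨x.1.1, ?_⟩, fun x => ⟨⟨x.1, ?_⟩, ?_⟩, fun x => ?_, fun x => ?_⟩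
    · exact Finset.mem_filter.2 ⟨(hs _).2 fun γ => congrArg Subtype.val (x.2 γ), x.1.2⟩
    · exact (Finset.mem_filter.1 x.2).2
    · exact fun γ => Subtype.ext ((hs _).1 (Finset.mem_filter.1 x.2).1 γ)
    · rfl
    · rfl
  rw [← e1, ← e2]
  exact h

theorem single_sum' {ι : Type*} [DecidableEq ι] {M : ι → Type*} [∀ i, AddCommMonoid (M i)] {α : Type*}
    (i : ι) (s : Finset α) (f : α → M i) : Pi.single i (∑ a ∈ s, f a) = ∑ a ∈ s, Pi.single i (f a) :=
  map_sum (AddMonoidHom.single M i) f s

section

variable [Finite G] (p : ℕ) [Fact p.Prime] [CharP k p]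

/-- the exponent cutting out `p`-regular parts -/
theorem exists_regPower : ∃ e : ℕ, 0 < e ∧ ∀ g : G, (orderOf (g ^ p ^ e)).Coprime p ∧
    (g ^ p ^ e) ^ p ^ e = g ^ p ^ e ∧ (g * (g ^ p ^ e)⁻¹) ^ p ^ e = 1 ∧
    ((orderOf g).Coprime p → g ^ p ^ e = g) := by
  have hp : p.Prime := Fact.out
  have hN : Nat.card G ≠ 0 := Nat.card_pos.ne'
  obtain ⟨a, m, hm, hN'⟩ : ∃ a m, ¬ p ∣ m ∧ Nat.card G = p ^ a * m :=
    Nat.exists_eq_pow_mul_and_not_dvd hN p hp.ne_one
  have hcop : Nat.Coprime p m := (hp.coprime_iff_not_dvd).2 hm
  have hm0 : 0 < m := Nat.pos_of_ne_zero fun h => hm (h ▸ dvd_zero p)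
  set e := m.totient * (a + 1) with he
  have hae : a ≤ e := le_trans (Nat.le_succ a)
    (Nat.le_mul_of_pos_left _ (Nat.totient_pos.2 hm0))
  have hmod : p ^ e ≡ 1 [MOD m] := by
    rw [he, pow_mul]
    simpa using (Nat.ModEq.pow_totient hcop).pow (a + 1)
  refine ⟨e, Nat.mul_pos (Nat.totient_pos.2 hm0) a.succ_pos, fun g => ?_⟩
  have hg : g ^ (p ^ a * m) = 1 := by rw [← hN']; exact pow_card_eq_one'
  have hr : (g ^ p ^ e) ^ m = 1 := by
    obtain ⟨c, hc⟩ := pow_dvd_pow p hae
    rw [← pow_mul, hc, show p ^ a * c * m = p ^ a * m * c by ring, pow_mul, hg, one_pow]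
  have hrm : orderOf (g ^ p ^ e) ∣ m := orderOf_dvd_of_pow_eq_one hr
  refine ⟨(hcop.symm).coprime_dvd_left hrm, ?_, ?_, fun hco => ?_⟩
  · conv_rhs => rw [← pow_one (g ^ p ^ e)]
    exact pow_eq_pow_iff_modEq.2 (hmod.of_dvd hrm)
  · rw [(Commute.inv_right ((Commute.refl g).pow_right _)).mul_pow, inv_pow]
    have h2 : (g ^ p ^ e) ^ p ^ e = g ^ p ^ e := by
      conv_rhs => rw [← pow_one (g ^ p ^ e)]
      exact pow_eq_pow_iff_modEq.2 (hmod.of_dvd hrm)
    rw [h2, mul_inv_cancel]
  · have hgm : orderOf g ∣ m :=
      (Nat.Coprime.pow_right a hco).dvd_of_dvd_mul_left (orderOf_dvd_of_pow_eq_one hg)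
    conv_rhs => rw [← pow_one g]
    exact pow_eq_pow_iff_modEq.2 (hmod.of_dvd hgm)

variable (k G) [IsAlgClosed k]

/-- **Brauer.** The simple modules, as many as the `p`-regular classes. -/
theorem exists_simples :
    ∃ (n : ℕ) (d : Fin n → ℕ) (ρ : ∀ i, Representation k G (Fin (d i) → k)),
      (∀ i, IsIrred (ρ i)) ∧ (∀ i j, IsoRep (ρ i) (ρ j) → i = j) ∧
      (∀ (W : Type w) [AddCommGroup W] [Module k W] (σ : Representation k G W), IsIrred σ →
        ∃ i, IsoRep (ρ i) σ) ∧
      Nat.card {c : ConjClasses G // ∃ g : G, ConjClasses.mk g = c ∧ (orderOf g).Coprime p} = n := by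
  classical
  haveI := Fintype.ofFinite G
  let A := MonoidAlgebra k G
  haveI : FiniteDimensional k A := Module.Finite.of_basis (MonoidAlgebra.basis G k)
  haveI : IsArtinianRing A := IsArtinianRing.of_finite k A
  haveI : FiniteDimensional k (A ⧸ Ring.jacobson A) :=
    Module.Finite.of_surjective (Ideal.Quotient.mkₐ k (Ring.jacobson A)).toLinearMap
      Ideal.Quotient.mk_surjective
  obtain ⟨n, d, hd, ⟨φ⟩⟩ :=
    IsSemisimpleRing.exists_algEquiv_pi_matrix_of_isAlgClosed k (A ⧸ Ring.jacobson A)
  let π : A →ₐ[k] Π i, Matrix (Fin (d i)) (Fin (d i)) k :=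
    φ.toAlgHom.comp (Ideal.Quotient.mkₐ k (Ring.jacobson A))
  have hs : Function.Surjective π := φ.surjective.comp Ideal.Quotient.mk_surjective
  have hker : ∀ a, π a = 0 → a ∈ Ring.jacobson A := fun a ha =>
    Ideal.Quotient.eq_zero_iff_mem.1 (φ.injective (by rw [map_zero]; exact ha))
  obtain ⟨M, hM⟩ : IsNilpotent (Ring.jacobson A) := IsSemiprimaryRing.isNilpotent
  have hpow : ∀ a ∈ Ring.jacobson A, ∀ j, a ^ j ∈ Ring.jacobson A ^ j := by
    intro a ha j
    induction j with
    | zero => rw [Submodule.pow_zero, Ideal.one_eq_top]; trivial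
    | succ j ih => rw [pow_succ, Submodule.pow_succ]; exact Submodule.smul_mem_smul ih ha
  let ρ : ∀ i, Representation k G (Fin (d i) → k) := fun i =>
    ((Matrix.toLinAlgEquiv' (R := k) (n := Fin (d i))).toAlgHom.comp
      ((Pi.evalAlgHom k (fun i => Matrix (Fin (d i)) (Fin (d i)) k) i).comp π)).toMonoidHom.comp
        (MonoidAlgebra.of k G)
  have hρ : ∀ i g v, ρ i g v = (π (MonoidAlgebra.of k G g) i).mulVec v := fun i g v => rfl
  have hinv : ∀ i W, Invar (ρ i) W → ∀ a, ∀ v ∈ W, (π a i).mulVec v ∈ W := by
    intro i W hW a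
    induction a using MonoidAlgebra.induction_on with
    | of g => intro v hv; exact hW g v hv
    | add a b ha hb =>
        intro v hv; rw [map_add, Pi.add_apply, Matrix.add_mulVec]; exact W.add_mem (ha v hv) (hb v hv)
    | smul r a ha =>
        intro v hv; rw [map_smul, Pi.smul_apply, Matrix.smul_mulVec]; exact W.smul_mem r (ha v hv)
  have hirr : ∀ i, IsIrred (ρ i) := by
    intro i
    haveI := hd i
    refine ⟨⟨Pi.single 0 1, fun h => by simpa using congrFun h 0⟩, fun W hW => or_iff_not_imp_left.2 fun hne => eq_top_iff.2 fun u _ => ?_⟩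
    obtain ⟨v, hv, hv0⟩ := Submodule.exists_mem_ne_zero_of_ne_bot hne
    obtain ⟨j, hj⟩ : ∃ j, v j ≠ 0 := Function.ne_iff.1 hv0
    obtain ⟨a, ha⟩ := hs (Pi.single i (Matrix.vecMulVec u (Pi.single j (v j)⁻¹)))
    have := hinv i W hW a v hv
    rw [ha, Pi.single_eq_same, Matrix.vecMulVec_mulVec] at this
    simpa [single_dotProduct, hj] using this
  have hiso : ∀ i j, IsoRep (ρ i) (ρ j) → i = j := by
    rintro i j ⟨f, hf⟩
    by_contra hne
    haveI := hd i
    have hall : ∀ a v, f ((π a i).mulVec v) = (π a j).mulVec (f v) := by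
      intro a
      induction a using MonoidAlgebra.induction_on with
      | of g => exact hf g
      | add a b ha hb => intro v; simp [Matrix.add_mulVec, ha, hb]
      | smul r a ha => intro v; simp [Matrix.smul_mulVec, ha]
    obtain ⟨a, ha⟩ := hs (Pi.single i 1)
    have := hall a (Pi.single 0 1)
    rw [ha, Pi.single_eq_same, Pi.single_eq_of_ne (Ne.symm hne), Matrix.one_mulVec, Matrix.zero_mulVec,
      LinearEquiv.map_eq_zero_iff] at this
    simpa using congrFun this 0
  have hcomplete : ∀ (W : Type w) [AddCommGroup W] [Module k W] (σ : Representation k G W),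
      IsIrred σ → ∃ i, IsoRep (ρ i) σ := by
    intro W _ _ σ hσ
    let S : A →ₐ[k] Module.End k W := σ.asAlgebraHom
    have hSg : ∀ g, S (MonoidAlgebra.of k G g) = σ g := fun g => σ.asAlgebraHom_of g
    have hS0 : ∀ a, π a = 0 → S a = 0 := by
      let W0 : Submodule k W :=
        { carrier := {v | ∀ a, π a = 0 → S a v = 0}
          zero_mem' := fun a _ => map_zero _
          add_mem' := fun hx hy a ha => by rw [map_add, hx a ha, hy a ha, add_zero]
          smul_mem' := fun c x hx a ha => by rw [map_smul, hx a ha, smul_zero] }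
      have hW0 : Invar σ W0 := by
        intro g v hv a ha
        rw [← hSg, ← Module.End.mul_apply, ← map_mul]
        exact hv _ (by rw [map_mul, ha, zero_mul])
      rcases hσ.2 W0 hW0 with h | h
      · exfalso
        obtain ⟨v0, hv0⟩ := hσ.1
        have key : ∀ j, ∃ a ∈ Ring.jacobson A ^ j, S a v0 ≠ 0 := by
          intro j
          induction j with
          | zero => exact ⟨1, by rw [Submodule.pow_zero, Ideal.one_eq_top]; trivial, by simpa using hv0⟩
          | succ j ih =>
              obtain ⟨a, ha, hne⟩ := ih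
              have hnot : S a v0 ∉ W0 := fun hmem => hne (by rwa [h, Submodule.mem_bot] at hmem)
              obtain ⟨b, hb, hb'⟩ : ∃ b, π b = 0 ∧ S b (S a v0) ≠ 0 := by
                by_contra hh
                push Not at hh
                exact hnot hh
              refine ⟨b * a, ?_, by rwa [map_mul]⟩
              rw [Ideal.IsTwoSided.pow_succ]
              exact Submodule.smul_mem_smul (hker b hb) ha
        obtain ⟨a, ha, hne⟩ := key M
        rw [hM] at ha
        rw [(Submodule.mem_bot A).1 ha, map_zero] at hne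
        exact hne rfl
      · intro a ha
        refine LinearMap.ext fun v => ?_
        exact (show v ∈ W0 from h ▸ Submodule.mem_top) a ha
    choose L hL using hs
    have hlift : ∀ a b, π a = π b → S a = S b := fun a b e => by
      rw [← sub_eq_zero, ← map_sub]; exact hS0 _ (by rw [map_sub, e, sub_self])
    let Q : (Π i, Matrix (Fin (d i)) (Fin (d i)) k) →ₗ[k] Module.End k W :=
      { toFun := fun x => S (L x)
        map_add' := fun x y => by
          rw [← map_add]; exact hlift _ _ (by rw [map_add, hL, hL, hL])
        map_smul' := fun c x => by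
          rw [RingHom.id_apply, ← map_smul]; exact hlift _ _ (by rw [map_smul, hL, hL]) }
    have hQ : ∀ a, Q (π a) = S a := fun a => hlift _ _ (hL _)
    obtain ⟨i, l, v, hv⟩ : ∃ i l v, Q (Pi.single i (Matrix.single l l 1)) v ≠ 0 := by
      by_contra hh
      push Not at hh
      obtain ⟨v0, hv0⟩ := hσ.1
      refine hv0 ?_
      have h1 : Q 1 v0 = v0 := by rw [← map_one π, hQ, map_one]; rfl
      have hone : (1 : Π i, Matrix (Fin (d i)) (Fin (d i)) k) =
          ∑ i, Pi.single i (∑ l, Matrix.single l l 1) := by
        funext i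
        rw [Finset.univ_sum_single, Pi.one_apply]
        ext a b
        rw [Matrix.sum_apply]
        by_cases hab : a = b
        · subst hab; simp [Matrix.single_apply]
        · rw [Matrix.one_apply_ne hab]
          refine (Finset.sum_eq_zero fun l _ => ?_).symm
          rw [Matrix.single_apply, if_neg]
          rintro ⟨rfl, rfl⟩; exact hab rfl
      rw [← h1, hone, map_sum, LinearMap.sum_apply]
      refine Finset.sum_eq_zero fun i _ => ?_
      rw [single_sum', map_sum, LinearMap.sum_apply]
      exact Finset.sum_eq_zero fun l _ => hh i l v0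
    refine ⟨i, ?_⟩
    let f : (Fin (d i) → k) →ₗ[k] W :=
      { toFun := fun c => Q (Pi.single i (Matrix.vecMulVec c (Pi.single l 1))) v
        map_add' := fun c c' => by
          rw [Matrix.add_vecMulVec, Pi.single_add, map_add, LinearMap.add_apply]
        map_smul' := fun r c => by
          rw [Matrix.smul_vecMulVec, Pi.single_smul, map_smul, LinearMap.smul_apply, RingHom.id_apply] }
    have hf : ∀ g c, f (ρ i g c) = σ g (f c) := by
      intro g c
      show Q (Pi.single i (Matrix.vecMulVec (ρ i g c) (Pi.single l 1))) v =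
        σ g (S (L (Pi.single i (Matrix.vecMulVec c (Pi.single l 1)))) v)
      rw [← hSg, ← Module.End.mul_apply, ← map_mul, ← hQ, map_mul, hL, hρ]
      congr 2
      funext j
      by_cases hj : j = i
      · subst hj
        simp [Matrix.mul_vecMulVec]
      · simp [hj]
    have hne : f (Pi.single l 1) ≠ 0 := by
      show Q (Pi.single i (Matrix.vecMulVec (Pi.single l 1) (Pi.single l 1))) v ≠ 0
      rwa [← Matrix.single_eq_single_vecMulVec_single]
    have hinj : LinearMap.ker f = ⊥ := by
      refine ((hirr i).2 _ fun g c hc => ?_).resolve_right fun h => hne ?_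
      · rw [LinearMap.mem_ker] at hc ⊢; rw [hf, hc, map_zero]
      · exact LinearMap.mem_ker.1 (h ▸ Submodule.mem_top)
    have hsur : LinearMap.range f = ⊤ := by
      refine (hσ.2 _ fun g w hw => ?_).resolve_left fun h => hne ?_
      · obtain ⟨c, rfl⟩ := LinearMap.mem_range.1 hw
        exact LinearMap.mem_range.2 ⟨ρ i g c, hf g c⟩
      · exact (Submodule.mem_bot k).1 (h ▸ LinearMap.mem_range_self f _)
    exact ⟨LinearEquiv.ofBijective f ⟨LinearMap.ker_eq_bot.1 hinj, LinearMap.range_eq_top.1 hsur⟩, hf⟩
  refine ⟨n, d, ρ, hirr, hiso, hcomplete, ?_⟩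
  obtain ⟨e, he0, he⟩ := exists_regPower (G := G) p
  let reg : G → G := fun g => g ^ p ^ e
  have htr : ∀ i g, (π (MonoidAlgebra.of k G g) i).trace = (π (MonoidAlgebra.of k G (reg g)) i).trace := by
    intro i g
    haveI := hd i
    haveI : CharP (Matrix (Fin (d i)) (Fin (d i)) k) p :=
      charP_of_injective_algebraMap (algebraMap k _).injective p
    let ψ : G →* Matrix (Fin (d i)) (Fin (d i)) k :=
      ((Pi.evalAlgHom k (fun i => Matrix (Fin (d i)) (Fin (d i)) k) i).comp π).toMonoidHom.comp
        (MonoidAlgebra.of k G)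
    show (ψ g).trace = (ψ (reg g)).trace
    set u := g * (reg g)⁻¹ with hu
    have hgu : g = u * reg g := by rw [hu, inv_mul_cancel_right]
    have hcomm : Commute (ψ u) (ψ (reg g)) := by
      refine Commute.map ?_ ψ
      rw [hu]
      exact ((Commute.refl g).pow_right _).mul_left (Commute.inv_left (Commute.refl _))
    have hnil : IsNilpotent (ψ g - ψ (reg g)) := by
      conv in ψ g => rw [hgu, map_mul]
      rw [← sub_one_mul]
      refine (hcomm.sub_left (Commute.one_left _)).isNilpotent_mul_right ⟨p ^ e, ?_⟩
      rw [sub_pow_char_pow_of_commute p e (Commute.one_right _), ← map_pow, (he g).2.2.1, map_one, one_pow,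
        sub_self]
    exact sub_eq_zero.1 (by
      rw [← Matrix.trace_sub]; exact isNilpotent_iff_eq_zero.1 (Matrix.isNilpotent_trace_of_isNilpotent hnil))
  let R := {c : ConjClasses G // ∃ g : G, ConjClasses.mk g = c ∧ (orderOf g).Coprime p}
  haveI : Finite (ConjClasses G) := Finite.of_surjective _ ConjClasses.mk_surjective
  haveI : Fintype R := Fintype.ofFinite R
  choose rep hrep using fun r : R => r.2
  let Ψ : (Fin n → k) →ₗ[k] (R → k) :=
    { toFun := fun c r => ∑ i, c i * (π (MonoidAlgebra.of k G (rep r)) i).trace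
      map_add' := fun c c' => by funext r; simp [add_mul, Finset.sum_add_distrib]
      map_smul' := fun t c => by funext r; simp [Finset.mul_sum, mul_assoc] }
  have hclass : ∀ i (g h : G), ConjClasses.mk g = ConjClasses.mk h →
      (π (MonoidAlgebra.of k G g) i).trace = (π (MonoidAlgebra.of k G h) i).trace := by
    intro i g h hgh
    obtain ⟨c, rfl⟩ := isConj_iff.1 (ConjClasses.mk_eq_mk_iff_isConj.1 hgh)
    rw [map_mul, map_mul, map_mul, map_mul, Pi.mul_apply, Pi.mul_apply, Matrix.trace_mul_cycle,
      ← Pi.mul_apply, ← map_mul, ← map_mul, inv_mul_cancel, map_one, map_one, Pi.one_apply, one_mul]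
  have hΨ : ∀ c, Ψ c = 0 → ∀ g, ∑ i, c i * (π (MonoidAlgebra.of k G g) i).trace = 0 := by
    intro c hc g
    let r : R := ⟨ConjClasses.mk (reg g), reg g, rfl, (he g).1⟩
    rw [Finset.sum_congr rfl fun i _ => by rw [htr i g, hclass i (reg g) (rep r) (hrep r).1.symm]]
    exact congrFun hc r
  have hinjΨ : Function.Injective Ψ := by
    rw [← LinearMap.ker_eq_bot, Submodule.eq_bot_iff]
    intro c hc
    have hall : ∀ a : A, ∑ i, c i * (π a i).trace = 0 := by
      intro a
      induction a using MonoidAlgebra.induction_on with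
      | of g => exact hΨ c hc g
      | add a b ha hb => simp [mul_add, Finset.sum_add_distrib, ha, hb]
      | smul r a ha => simp [mul_left_comm _ r, ← Finset.mul_sum, ha]
    funext i
    haveI := hd i
    obtain ⟨a, ha⟩ := hs (Pi.single i (Matrix.single 0 0 1))
    have := hall a
    rw [Finset.sum_eq_single i (fun j _ hj => by rw [ha, Pi.single_eq_of_ne hj]; simp)
      (fun h => absurd (Finset.mem_univ i) h), ha, Pi.single_eq_same, Matrix.trace_single_eq_same,
      mul_one] at this
    exact this
  have hsurΨ : Function.Surjective Ψ := by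
    rw [← LinearMap.range_eq_top, eq_top_iff]
    intro x _
    rw [pi_eq_sum_univ x]
    refine Submodule.sum_mem _ fun r _ => Submodule.smul_mem _ _ ?_
    let F : G → k := fun g => if ConjClasses.mk (reg g) = r.1 then 1 else 0
    have hFconj : ∀ g h : G, F (h * g * h⁻¹) = F g := by
      intro g h
      have : ConjClasses.mk (reg (h * g * h⁻¹)) = ConjClasses.mk (reg g) := by
        rw [ConjClasses.mk_eq_mk_iff_isConj]
        refine isConj_iff.2 ⟨h⁻¹, ?_⟩
        simp only [reg, conj_pow]
        group
      simp only [F, this]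
    let Fl : A →ₗ[k] k := (MonoidAlgebra.basis G k).constr k F
    have hFl : ∀ g, Fl (MonoidAlgebra.of k G g) = F g := fun g => by
      show (MonoidAlgebra.basis G k).constr k F (MonoidAlgebra.of k G g) = F g
      rw [show MonoidAlgebra.of k G g = MonoidAlgebra.basis G k g by simp, Module.Basis.constr_basis]
    have hcommF : ∀ a b, Fl (a * b) = Fl (b * a) := by
      intro a b
      induction a using MonoidAlgebra.induction_on with
      | of g =>
          induction b using MonoidAlgebra.induction_on with
          | of h => rw [← map_mul, ← map_mul, hFl, hFl, ← hFconj (h * g) g]; group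
          | add x y hx hy => rw [mul_add, add_mul, map_add, map_add, hx, hy]
          | smul t x hx => rw [mul_smul_comm, smul_mul_assoc, map_smul, map_smul, hx]
      | add x y hx hy => rw [mul_add, add_mul, map_add, map_add, hx, hy]
      | smul t x hx => rw [mul_smul_comm, smul_mul_assoc, map_smul, map_smul, hx]
    have hpowF : ∀ a : A, Fl (a ^ p ^ e) = Fl a ^ p ^ e := by
      intro a
      obtain ⟨N, hN⟩ : ∃ N, p ^ e = N + 1 := Nat.exists_eq_succ_of_ne_zero (pow_ne_zero _ (Fact.out : p.Prime).ne_zero)
      have hexp : ∀ N, a ^ (N + 1) = ∑ w : Fin (N + 1) → G,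
          (∏ j, a.coeff (w j)) • MonoidAlgebra.of k G (List.ofFn w).prod := by
        have ha : a = ∑ g, a.coeff g • MonoidAlgebra.of k G g := by
          conv_lhs => rw [← (MonoidAlgebra.basis G k).sum_repr a]
          simp
          rfl
        intro N
        induction N with
        | zero =>
            rw [pow_one, ← Equiv.sum_comp (Equiv.funUnique (Fin 1) G).symm]
            conv_lhs => rw [ha]
            simp
        | succ N ih =>
            rw [pow_succ', ih]
            conv_rhs => rw [← Equiv.sum_comp (Fin.consEquiv fun _ => G), Fintype.sum_prod_type]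
            conv_lhs => arg 1; rw [ha]
            rw [Finset.sum_mul_sum]
            refine Finset.sum_congr rfl fun g _ => ?_
            refine Finset.sum_congr rfl fun w _ => ?_
            rw [smul_mul_smul_comm, ← map_mul]
            simp only [Fin.consEquiv_apply, Fin.prod_univ_succ, Fin.cons_zero, Fin.cons_succ, List.ofFn_succ,
              List.prod_cons]
      let T : Equiv.Perm (Fin (N + 1) → G) := Equiv.arrowCongr (finRotate (N + 1)).symm (Equiv.refl G)
      have hT : ∀ w, T w = w ∘ finRotate (N + 1) := fun w => by funext j; simp [T]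
      have hTn : ∀ (m : ℕ) w, (T ^ m) w = fun j => w (j + Fin.ofNat (N + 1) m) := by
        intro m
        induction m with
        | zero => intro w; simp
        | succ m ih =>
            intro w; funext j
            rw [pow_succ, Equiv.Perm.mul_apply, ih, hT]
            simp only [Function.comp_apply, finRotate_succ_apply]
            congr 1
            ext
            simp [Fin.val_add, Nat.add_assoc]
      have hPG : IsPGroup p (Subgroup.zpowers T) := by
        rintro ⟨x, hx⟩
        refine ⟨e, Subtype.ext ?_⟩
        obtain ⟨z, rfl⟩ := hx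
        show (T ^ z) ^ p ^ e = 1
        rw [← zpow_natCast, ← zpow_mul, mul_comm, zpow_mul, zpow_natCast]
        have : T ^ p ^ e = 1 := Equiv.ext fun w => by
          rw [hN, hTn]
          funext j
          show w (j + Fin.ofNat (N + 1) (N + 1)) = w j
          congr 1
          ext
          simp [Fin.val_add]
        rw [this, one_zpow]
      let f : (Fin (N + 1) → G) → k := fun w => (∏ j, a.coeff (w j)) * F (List.ofFn w).prod
      have hfT : ∀ w, f (T w) = f w := by
        intro w
        rw [hT]
        show _ * _ = _ * _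
        congr 1
        · exact Equiv.prod_comp (finRotate (N + 1)) fun j => a.coeff (w j)
        · rw [List.ofFn_succ' (w ∘ finRotate (N + 1)), List.prod_concat, List.ofFn_succ (f := w), List.prod_cons]
          have e1 : (fun i : Fin N => (w ∘ finRotate (N + 1)) i.castSucc) = fun i => w i.succ := by
            funext i; simp [Fin.coeSucc_eq_succ]
          rw [e1, Function.comp_apply, finRotate_last,
            ← hFconj ((List.ofFn fun i => w i.succ).prod * w 0) (w 0)]
          congr 1; group
      have hfix : ∀ w, w ∈ Finset.univ.image (fun g : G => fun _ : Fin (N + 1) => g) ↔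
          w ∈ MulAction.fixedPoints (Subgroup.zpowers T) (Fin (N + 1) → G) := by
        intro w
        rw [Finset.mem_image]
        constructor
        · rintro ⟨g, -, rfl⟩ ⟨x, hx⟩
          have hg : T (fun _ : Fin (N + 1) => g) = fun _ => g := by rw [hT]; rfl
          obtain ⟨z, rfl⟩ := hx
          exact Equiv.Perm.zpow_apply_eq_self_of_apply_eq_self hg z
        · intro hw
          refine ⟨w 0, Finset.mem_univ _, funext fun j => ?_⟩
          have h1 := congrFun (hw ⟨T ^ (j : ℕ), Subgroup.mem_zpowers_iff.2 ⟨(j : ℕ), zpow_natCast _ _⟩⟩) 0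
          rw [Subgroup.smul_def, Equiv.Perm.smul_def, hTn] at h1
          simpa using h1.symm
      have hFP : ∀ g, F (g ^ p ^ e) = F g := fun g => by simp only [F, reg, (he g).2.1]
      calc Fl (a ^ p ^ e) = ∑ w : Fin (N + 1) → G, f w := by
            rw [hN, hexp N, map_sum]
            exact Finset.sum_congr rfl fun w _ => by rw [map_smul, hFl, smul_eq_mul]
        _ = ∑ w ∈ Finset.univ.image (fun g : G => fun _ : Fin (N + 1) => g), f w :=
            sum_eq_sum_fixed hPG f (fun γ w => by
              obtain ⟨x, z, rfl⟩ := γ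
              show f ((T ^ z) w) = f w
              induction z generalizing w with
              | zero => rfl
              | succ z ih => rw [zpow_add_one, Equiv.Perm.mul_apply, ih, hfT]
              | pred z ih =>
                  rw [zpow_sub_one, Equiv.Perm.mul_apply, ih, ← hfT (T⁻¹ w)]
                  exact congrArg f (T.apply_symm_apply w))
              _ hfix
        _ = ∑ g, (a.coeff g) ^ p ^ e * F (g ^ p ^ e) := by
            rw [Finset.sum_image fun x _ y _ h => congrFun h 0]
            refine Finset.sum_congr rfl fun g _ => ?_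
            simp [f, Finset.prod_const, List.ofFn_const, List.prod_replicate, hN, ← pow_succ']
        _ = ∑ g, (a.coeff g * F g) ^ p ^ e := by
            refine Finset.sum_congr rfl fun g _ => ?_
            rw [mul_pow, hFP]
            congr 1
            simp only [F]
            split_ifs <;> simp [(Fact.out : p.Prime).ne_zero]
        _ = Fl a ^ p ^ e := by
            rw [← sum_pow_char_pow]
            congr 1
            show _ = (MonoidAlgebra.basis G k).constr k F a
            rw [Module.Basis.constr_apply_fintype]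
            exact Finset.sum_congr rfl fun g _ => by simp [Module.Basis.equivFun_apply]; exact Or.inl rfl
    have hFJ : ∀ a, π a = 0 → Fl a = 0 := by
      intro a ha
      have hit : ∀ j, Fl (a ^ (p ^ e) ^ j) = Fl a ^ (p ^ e) ^ j := by
        intro j
        induction j with
        | zero => simp
        | succ j ih => rw [pow_succ, pow_mul, hpowF, ih, ← pow_mul]
      have hJ : a ^ M = 0 := by
        have h := hpow a (hker a ha) M
        rw [hM] at h
        exact (Submodule.mem_bot A).1 h
      have hgt : 1 < p ^ e := Nat.one_lt_pow he0.ne' (Fact.out : p.Prime).one_lt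
      have hle : M ≤ (p ^ e) ^ M := (Nat.lt_pow_self hgt).le
      have := hit M
      rw [pow_eq_zero_of_le hle hJ, map_zero] at this
      exact pow_eq_zero_iff (pow_ne_zero _ (pow_ne_zero _ (Fact.out : p.Prime).ne_zero)) |>.1 this.symm
    choose L hL using hs
    have hlift : ∀ a b, π a = π b → Fl a = Fl b := fun a b ee => by
      rw [← sub_eq_zero, ← map_sub]; exact hFJ _ (by rw [map_sub, ee, sub_self])
    let Fq : (Π i, Matrix (Fin (d i)) (Fin (d i)) k) →ₗ[k] k :=
      { toFun := fun x => Fl (L x)
        map_add' := fun x y => by rw [← map_add]; exact hlift _ _ (by rw [map_add, hL, hL, hL])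
        map_smul' := fun c x => by
          rw [RingHom.id_apply, ← map_smul]; exact hlift _ _ (by rw [map_smul, hL, hL]) }
    have hFq : ∀ a, Fq (π a) = Fl a := fun a => hlift _ _ (hL _)
    have hFqc : ∀ x y, Fq (x * y) = Fq (y * x) := fun x y => by
      rw [← hL x, ← hL y, ← map_mul, ← map_mul, hFq, hFq, hcommF]
    let c : Fin n → k := fun i => Fq (Pi.single i (Matrix.single (haveI := hd i; 0) (haveI := hd i; 0) 1))
    refine ⟨c, funext fun s => ?_⟩
    have hone : ∀ i (j l : Fin (d i)), Fq (Pi.single i (Matrix.single j l 1)) = if j = l then c i else 0 := by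
      intro i j l
      haveI := hd i
      have e1 : (Pi.single i (Matrix.single j l (1 : k)) : Π i, Matrix (Fin (d i)) (Fin (d i)) k) =
          Pi.single i (Matrix.single j 0 1) * Pi.single i (Matrix.single 0 l 1) := by
        rw [← Pi.single_mul, Matrix.single_mul_single_same, mul_one]
      rw [e1, hFqc, ← Pi.single_mul]
      split_ifs with h
      · subst h; rw [Matrix.single_mul_single_same, mul_one]
      · rw [Matrix.single_mul_single_of_ne _ _ _ _ (Ne.symm h), Pi.single_zero, map_zero]
    have hFqx : ∀ x, Fq x = ∑ i, c i * (x i).trace := by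
      intro x
      conv_lhs => rw [← Finset.univ_sum_single x, map_sum]
      refine Finset.sum_congr rfl fun i _ => ?_
      have hone' : ∀ (j l : Fin (d i)) (t : k), Fq (Pi.single i (Matrix.single j l t)) =
          t * if j = l then c i else 0 := fun j l t => by
        rw [← hone, ← smul_eq_mul, ← map_smul, ← Pi.single_smul, Matrix.smul_single, smul_eq_mul, mul_one]
      conv_lhs => rw [Matrix.matrix_eq_sum_single (x i), single_sum', map_sum]
      rw [Matrix.trace, Finset.mul_sum]
      refine Finset.sum_congr rfl fun j _ => ?_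
      rw [single_sum', map_sum, Finset.sum_eq_single j
        (fun l _ hl => by rw [hone', if_neg (Ne.symm hl), mul_zero])
        (fun h => absurd (Finset.mem_univ j) h), hone', if_pos rfl, mul_comm]
      rfl
    show ∑ i, c i * (π (MonoidAlgebra.of k G (rep s)) i).trace = _
    rw [← hFqx, hFq, hFl]
    show (if ConjClasses.mk (reg (rep s)) = r.1 then (1 : k) else 0) = if r = s then 1 else 0
    have hs' : reg (rep s) = rep s := (he _).2.2.2 (hrep s).2
    rw [hs', (hrep s).1]
    by_cases h : r = s
    · rw [if_pos h, if_pos (congrArg Subtype.val h.symm)]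
    · rw [if_neg h, if_neg fun h' => h (Subtype.ext h'.symm)]
  have := (LinearEquiv.ofBijective Ψ ⟨hinjΨ, hsurΨ⟩).finrank_eq
  rw [Module.finrank_pi, Module.finrank_pi, Fintype.card_fin] at this
  rw [Nat.card_eq_fintype_card]
  exact this.symm

end

end CfsgLib.ModularCount
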