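import Cfsg.Agent.Lib.ModularCount.Basic
import Cfsg.Agent.Lib.Chev.DefectZero
import Cfsg.Agent.Lib.Chev.Bruhat
import Cfsg.Agent.Lib.ChevAut.Sylow
import Mathlib.LinearAlgebra.Eigenspace.Triangularizable
import Mathlib.LinearAlgebra.Dual.Lemmas
import Mathlib.RingTheory.IntegralDomain

/-!
Weights of modular representations of a tabulated Chevalley group in the defining characteristic
(after Curtis and Richen): existence and uniqueness.
-/

set_option autoImplicit false

open Module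
open scoped Classical

namespace CfsgLib.ModularCount

open Cfsg.Lie CfsgLib.Chev
open scoped Matrix

universe u w w'

variable {D : ChevalleyDatum} {T : Tabs} {F : Type*} [Field F]
  {k : Type u} [Field k] {V : Type w} [AddCommGroup V] [Module k V]
  {V' : Type w'} [AddCommGroup V'] [Module k V']

/-- the negative unipotent group, inside the group -/
abbrev Ug' (D : ChevalleyDatum) (F : Type*) [Field F] : Subgroup ↥(D.group F) :=
  (uGen D F (fun r => r < D.nroots / 2)).subgroupOf (D.group F)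

/-- the subgroup summed over in the operator of a word -/
abbrev Uw (D : ChevalleyDatum) (T : Tabs) (F : Type*) [Field F] (L : List (Fin D.rank)) :
    Subgroup ↥(D.group F) :=
  (uInv D T F L.reverse).subgroupOf (D.group F)

/-- the diagonal subgroup, inside the group -/
abbrev Hg (D : ChevalleyDatum) (F : Type*) [Field F] : Subgroup ↥(D.group F) :=
  (D.diagonalSubgroup F).subgroupOf (D.group F)

/-- fixed by the positive unipotent group -/
def Fixed (ρ : Representation k ↥(D.group F) V) (v : V) : Prop := ∀ u ∈ Ug D F, ρ u v = v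

/-- an eigenvector of the diagonal subgroup -/
def HEig (ρ : Representation k ↥(D.group F) V) (v : V) : Prop :=
  ∀ h ∈ Hg D F, ∃ a : k, ρ h v = a • v

variable (hc : Checked D T)

/-- a word in the fundamental monomial elements, inside the group -/
noncomputable def nW (L : List (Fin D.rank)) : ↥(D.group F) :=
  ⟨nProd D F L, monomial_le_group hc (nProd_mem_monomial hc L)⟩

/-- a coroot element, inside the group -/
noncomputable def hG (i : Fin D.rank) : Fˣ →* ↥(D.group F) where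
  toFun t := ⟨torus D T F (corChar D T (D.simple i.val) t),
    diagonal_le_group hc (torus_corChar_mem hc t)⟩
  map_one' := Subtype.ext (by
    show torus D T F (corChar D T (D.simple i.val) 1) = 1
    rw [corChar_one, map_one])
  map_mul' a b := Subtype.ext (by
    show torus D T F (corChar D T (D.simple i.val) (a * b)) = _
    rw [corChar_mul, map_mul]; rfl)

variable [Fintype F]

/-- the Hecke operator of a fundamental reflection -/
noncomputable def rOp (ρ : Representation k ↥(D.group F) V) (i : Fin D.rank) : V →ₗ[k] V :=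
  ∑ t : F, ρ (xG hc (simple_lt hc i.2) t * nG hc i 1)

/-- the Hecke operator of a word -/
noncomputable def wOp (ρ : Representation k ↥(D.group F) V) (L : List (Fin D.rank)) : V →ₗ[k] V :=
  letI := Fintype.ofFinite ↥(Uw D T F L)
  ∑ u : ↥(Uw D T F L), ρ ((u : ↥(D.group F)) * nW hc L)

/-- weights -/
abbrev Wt (D : ChevalleyDatum) (F : Type*) [Field F] (k : Type*) [Field k] :=
  Fin D.rank → Option (Fˣ →* kˣ)

/-- the character of a weight on a coroot subgroup -/
def chiW (w : Wt D F k) (i : Fin D.rank) (t : Fˣ) : k := (((w i).getD 1 t : kˣ) : k)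

/-- the eigenvalue of a weight at a fundamental reflection -/
def muW (w : Wt D F k) (i : Fin D.rank) : k := if (w i).isNone then -1 else 0

/-- a weight vector -/
def IsWtVec (ρ : Representation k ↥(D.group F) V) (w : Wt D F k) (y : V) : Prop :=
  y ≠ 0 ∧ Fixed ρ y ∧ (∀ i t, ρ (hG hc i t) y = chiW w i t • y) ∧ ∀ i, rOp hc ρ i y = muW w i • y

section basic

variable {ρ : Representation k ↥(D.group F) V}

omit [Fintype F] in
theorem rep_mul (g h : ↥(D.group F)) (v : V) : ρ g (ρ h v) = ρ (g * h) v := by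
  rw [map_mul]; rfl

include hc

theorem sig_neg_iff {r : ℕ} (hr : r < D.nroots) : D.neg r < D.nroots / 2 ↔ D.nroots / 2 ≤ r := by
  have e : D.neg r = _ := neg_eq hc (a := r) hr
  have := nroots_eq_two_mul hc
  omega

omit [Fintype F] in
theorem nW_cons (i : Fin D.rank) (L : List (Fin D.rank)) :
    nW (F := F) hc (i :: L) = nG hc i 1 * nW hc L := rfl

omit [Fintype F] in
theorem nW_append (L M : List (Fin D.rank)) :
    nW (F := F) hc (L ++ M) = nW hc L * nW hc M := Subtype.ext (nProd_append L M)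

omit [Fintype F] in
theorem hG_mem (i : Fin D.rank) (t : Fˣ) : hG hc i t ∈ Hg D F :=
  Subgroup.mem_subgroupOf.2 (torus_corChar_mem hc t)

omit [Fintype F] in
theorem nW_conj_mem (L : List (Fin D.rank)) {h : ↥(D.group F)} (hh : h ∈ Hg D F) :
    nW hc L * h * (nW hc L)⁻¹ ∈ Hg D F :=
  Subgroup.mem_subgroupOf.2 (nProd_conj_diagonal hc L (Subgroup.mem_subgroupOf.1 hh))

omit [Fintype F] in
theorem nW_conj_mem' (L : List (Fin D.rank)) {h : ↥(D.group F)} (hh : h ∈ Hg D F) :
    (nW hc L)⁻¹ * h * nW hc L ∈ Hg D F :=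
  Subgroup.mem_subgroupOf.2 (by
    simpa [nW] using monomial_conj_diagonal hc (inv_mem (nProd_mem_monomial hc (F := F) L))
      (Subgroup.mem_subgroupOf.1 hh))

omit [Fintype F] in
theorem hg_normalizes (P : ℕ → Prop) {h g : ↥(D.group F)} (hh : h ∈ Hg D F)
    (hg : g ∈ (uGen D F P).subgroupOf (D.group F)) :
    h * g * h⁻¹ ∈ (uGen D F P).subgroupOf (D.group F) :=
  Subgroup.mem_subgroupOf.2 (diag_conj_mem hc P (Subgroup.mem_subgroupOf.1 hh)
    (Subgroup.mem_subgroupOf.1 hg))

omit [Fintype F] in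
theorem nW_conj_gen (L : List (Fin D.rank)) {P Q : ℕ → Prop}
    (h : ∀ r, r < D.nroots → P r → Q (sigs D T L r)) {g : ↥(D.group F)}
    (hg : g ∈ (uGen D F P).subgroupOf (D.group F)) :
    nW hc L * g * (nW hc L)⁻¹ ∈ (uGen D F Q).subgroupOf (D.group F) :=
  Subgroup.mem_subgroupOf.2 (ChevField.nProd_conj_uGen hc L h (Subgroup.mem_subgroupOf.1 hg))

omit [Fintype F] in
theorem nW_conj_gen' (L : List (Fin D.rank)) {P Q : ℕ → Prop}
    (h : ∀ r, r < D.nroots → P r → Q (sigs D T L.reverse r)) {g : ↥(D.group F)}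
    (hg : g ∈ (uGen D F P).subgroupOf (D.group F)) :
    (nW hc L)⁻¹ * g * nW hc L ∈ (uGen D F Q).subgroupOf (D.group F) := by
  obtain ⟨a, ha, e⟩ := nProd_inv hc (F := F) L
  let ag : ↥(D.group F) := ⟨a, diagonal_le_group hc ha⟩
  have e' : (nW (F := F) hc L)⁻¹ = ag * nW hc L.reverse := Subtype.ext e
  have h1 := hg_normalizes hc Q (h := ag) (Subgroup.mem_subgroupOf.2 ha) (nW_conj_gen hc L.reverse h hg)
  convert h1 using 1
  rw [e', show nW (F := F) hc L = (ag * nW hc L.reverse)⁻¹ by rw [← e', inv_inv]]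
  group

omit [Fintype F] in
theorem nW_div_mem {L M : List (Fin D.rank)}
    (h : ∀ r, r < D.nroots → sigs D T L r = sigs D T M r) :
    (nW hc M)⁻¹ * nW (F := F) hc L ∈ Hg D F := by
  have h1 : nW (F := F) hc L * (nW hc M)⁻¹ ∈ Hg D F :=
    Subgroup.mem_subgroupOf.2 (nProd_div_mem hc h)
  have := nW_conj_mem' hc M h1
  convert this using 1
  group

theorem sigs_rev_congr {L M : List (Fin D.rank)}
    (h : ∀ r, r < D.nroots → sigs D T L r = sigs D T M r) {r : ℕ} (hr : r < D.nroots) :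
    sigs D T L.reverse r = sigs D T M.reverse r := by
  refine sigs_injOn hc L (sigs_lt hc _ hr) (sigs_lt hc _ hr) ?_
  have e1 := sigs_reverse hc L.reverse hr
  have e2 := sigs_reverse hc M.reverse hr
  rw [List.reverse_reverse] at e1 e2
  rw [e1, h _ (sigs_lt hc _ hr), e2]

omit [Fintype F] in
theorem uw_congr {L M : List (Fin D.rank)}
    (h : ∀ r, r < D.nroots → sigs D T L r = sigs D T M r) : Uw D T F L = Uw D T F M := by
  unfold Uw
  rw [uInv_congr hc fun r hr => sigs_rev_congr hc h hr]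

/-- words with the same permutation give operators differing by a torus element -/
theorem wOp_congr {L M : List (Fin D.rank)} (h : ∀ r, r < D.nroots → sigs D T L r = sigs D T M r)
    (v : V) : wOp hc ρ L v = wOp hc ρ M (ρ ((nW hc M)⁻¹ * nW hc L) v) := by
  classical
  letI := Fintype.ofFinite ↥(Uw D T F L)
  letI := Fintype.ofFinite ↥(Uw D T F M)
  rw [wOp, wOp, LinearMap.sum_apply, LinearMap.sum_apply]
  refine Fintype.sum_equiv (MulEquiv.subgroupCongr (uw_congr hc h)).toEquiv _ _ fun u => ?_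
  rw [rep_mul]
  congr 2
  simp only [MulEquiv.toEquiv_eq_coe, EquivLike.coe_coe, MulEquiv.subgroupCongr_apply]
  group

/-- the torus permutes the summands -/
theorem wOp_torus (L : List (Fin D.rank)) {h : ↥(D.group F)} (hh : h ∈ Hg D F) (v : V) :
    ρ h (wOp hc ρ L v) = wOp hc ρ L (ρ ((nW hc L)⁻¹ * h * nW hc L) v) := by
  classical
  letI := Fintype.ofFinite ↥(Uw D T F L)
  rw [wOp, LinearMap.sum_apply, LinearMap.sum_apply, map_sum]
  let e : ↥(Uw D T F L) ≃ ↥(Uw D T F L) :=
    { toFun := fun u => ⟨h * u * h⁻¹, hg_normalizes hc _ hh u.2⟩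
      invFun := fun u => ⟨h⁻¹ * u * h, by
        have h1 := hg_normalizes hc (InvRoot D T L.reverse) (inv_mem hh) u.2
        rw [inv_inv] at h1
        exact h1⟩
      left_inv := fun u => Subtype.ext (by group)
      right_inv := fun u => Subtype.ext (by group) }
  refine Fintype.sum_equiv e _ _ fun u => ?_
  rw [rep_mul, rep_mul]
  congr 2
  show h * ((u : ↥(D.group F)) * nW hc L) =
    h * (u : ↥(D.group F)) * h⁻¹ * nW hc L * ((nW hc L)⁻¹ * h * nW hc L)
  group

theorem hEig_wOp (L : List (Fin D.rank)) {v : V} (hv : HEig ρ v) : HEig ρ (wOp hc ρ L v) := by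
  intro h hh
  obtain ⟨a, ha⟩ := hv _ (nW_conj_mem' hc L hh)
  exact ⟨a, by rw [wOp_torus hc L hh, ha, map_smul]⟩

theorem wOp_nil (v : V) : wOp hc ρ [] v = v := by
  classical
  letI := Fintype.ofFinite ↥(Uw D T F [])
  have hbot : Uw D T F [] = ⊥ := by
    rw [Uw, List.reverse_nil, uInv, eq_bot_iff]
    intro g hg
    have : uGen D F (InvRoot D T []) = ⊥ := by
      rw [eq_bot_iff, uGen_le_iff]
      intro r _ h
      exact absurd h.2 (not_lt.2 h.1)
    rw [Subgroup.mem_subgroupOf, this, Subgroup.mem_bot] at hg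
    exact Subgroup.mem_bot.2 (Subtype.ext hg)
  rw [wOp, LinearMap.sum_apply, Finset.sum_eq_single (1 : ↥(Uw D T F []))]
  · simp [nW, show (⟨(1 : GL D.Idx F), _⟩ : ↥(D.group F)) = 1 from rfl]
  · intro u _ hu
    refine absurd (Subtype.ext ?_) hu
    exact Subgroup.mem_bot.1 (hbot ▸ u.2)
  · simp

variable (hcomm : CommOne D T)
include hcomm

/-- `U_{w⁻¹}` grows along a reflection lengthening `w` -/
noncomputable def stepEquiv (i : Fin D.rank) (L : List (Fin D.rank))
    (hpos : D.nroots / 2 ≤ sigs D T L.reverse (D.simple i.val)) :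
    F × ↥(Uw D T F L) ≃ ↥(Uw D T F (i :: L)) := by
  have hp := simple_lt hc i.2
  have hh := half_le_simple hc i.2
  have hsplit : ∀ r, sigs D T (i :: L).reverse r = sigs D T L.reverse (sig D T i r) := fun r => by
    rw [List.reverse_cons, sigs_append]; rfl
  have hxmem : ∀ t, xG hc hp t ∈ Uw D T F (i :: L) := fun t => by
    refine Subgroup.mem_subgroupOf.2 (elX_mem_uGen hp ⟨hh, ?_⟩ t)
    rw [hsplit, sig_simple hc, sigs_neg hc _ hp, sig_neg_iff hc (sigs_lt hc _ hp)]
    exact hpos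
  have hconj : ∀ u ∈ Uw D T F L, nG hc i 1 * u * (nG hc i 1)⁻¹ ∈ Uw D T F (i :: L) := by
    intro u hu
    have h1 : nW (F := F) hc [i] = nG hc i 1 := by rw [nW_cons]; exact mul_one _
    rw [← h1]
    refine nW_conj_gen hc [i] (fun r hr hP => ?_) hu
    have hne : r ≠ D.simple i.val := fun e => by have := hP.2; rw [e] at this; omega
    refine ⟨(sig_pos hc i hr hP.1 hne).1, ?_⟩
    show sigs D T (i :: L).reverse (sig D T i r) < _
    rw [hsplit, sig_sig hc i hr]
    exact hP.2
  refine Equiv.ofBijective (fun x : F × ↥(Uw D T F L) =>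
    ⟨xG hc hp x.1 * (nG hc i (1 : F) * (x.2 : ↥(D.group F)) * (nG hc i (1 : F))⁻¹),
      mul_mem (hxmem _) (hconj _ x.2.2)⟩) ⟨?_, ?_⟩
  · rintro ⟨t, u⟩ ⟨t', u'⟩ e
    have e' : xG hc hp t * (nG hc i (1 : F) * (u : ↥(D.group F)) * (nG hc i (1 : F))⁻¹) =
        xG hc hp t' * (nG hc i (1 : F) * (u' : ↥(D.group F)) * (nG hc i (1 : F))⁻¹) :=
      congrArg Subtype.val e
    have h1 : ((nG hc i (1 : F))⁻¹ * ((xG hc hp t')⁻¹ * xG hc hp t) * nG hc i (1 : F)) =
        (u' : ↥(D.group F)) * (u : ↥(D.group F))⁻¹ := by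
      rw [show xG hc hp t = xG hc hp t' * (nG hc i (1 : F) * (u' : ↥(D.group F)) * (nG hc i (1 : F))⁻¹) *
        (nG hc i (1 : F) * (u : ↥(D.group F)) * (nG hc i (1 : F))⁻¹)⁻¹ by rw [← e', mul_inv_cancel_right]]
      group
    have hB : (((nG hc i (1 : F))⁻¹ * ((xG hc hp t')⁻¹ * xG hc hp t) * nG hc i (1 : F) : ↥(D.group F)) :
        GL D.Idx F) ∈ D.borelSubgroup F := by
      rw [h1]
      exact pos_le_borel hc (uInv_le_pos hc _
        (Subgroup.mem_subgroupOf.1 (mul_mem u'.2 (inv_mem u.2))))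
    have h2 : (elN D F (D.simple i.val) (1 : F))⁻¹ * ((elX D F (D.simple i.val) t')⁻¹ *
        elX D F (D.simple i.val) t) * elN D F (D.simple i.val) 1 ∈ D.borelSubgroup F := hB
    rw [elX_inv hc F hp, elX_add hc F hp] at h2
    have hη : ∃ a : F, a ≠ 0 ∧ ∀ s, elX D F (D.simple i.val) s = elN D F (D.simple i.val) 1 *
        elX D F (D.neg (D.simple i.val)) (a * s) * (elN D F (D.simple i.val) 1)⁻¹ := by
      have hne := neg_lt hc hp
      refine ⟨(eta D T i (D.neg (D.simple i.val)) : F)⁻¹, inv_ne_zero ?_, fun s => ?_⟩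
      · rcases eta_cast hc (F := F) i hne with e | e <;> simp [e]
      · rw [nOne_conj_elX hc i hne, sig_neg hc i hp, sig_simple hc, neg_neg_root hc hp,
          mul_inv_cancel_left₀]
        rcases eta_cast hc (F := F) i hne with e | e <;> simp [e]
    obtain ⟨a, ha, haa⟩ := hη
    rw [haa] at h2
    have htt : t = t' := by
      by_contra hne
      refine elX_not_mem_borel hc (neg_lt hc hp) ((sig_neg_iff hc hp).2 hh) (mul_ne_zero ha
        (fun h => hne (eq_of_sub_eq_zero (a := t) (b := t') (by rw [← h])))) ?_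
      convert h2 using 1
      rw [neg_add_eq_sub]
      group
    subst htt
    exact Prod.ext rfl (Subtype.ext (mul_left_cancel (mul_right_cancel (mul_left_cancel e'))))
  · rintro ⟨g, hg⟩
    obtain ⟨a, ha, b, hb, e⟩ := uGen_split hc hcomm (closedPos_inv hc (i :: L).reverse)
      (Q := fun r => r = D.simple i.val)
      (R := fun r => InvRoot D T (i :: L).reverse r ∧ r ≠ D.simple i.val)
      (fun r _ hP => if h : r = D.simple i.val then Or.inl h else Or.inr ⟨hP, h⟩)
      (Subgroup.mem_subgroupOf.1 hg)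
    rw [← rootSubgroup_eq hc hp, mem_rootSubgroup hc hp] at ha
    obtain ⟨t, rfl⟩ := ha
    let bg : ↥(D.group F) := ⟨b, pos_le_group hc (uGen_mono (fun _ _ h => h.1.1) hb)⟩
    have h1 : nW (F := F) hc [i] = nG hc i 1 := by rw [nW_cons]; exact mul_one _
    have hbg := nW_conj_gen' hc [i] (g := bg) (Q := InvRoot D T L.reverse) (fun r hr hP => by
      refine ⟨(sig_pos hc i hr hP.1.1 hP.2).1, ?_⟩
      show sigs D T L.reverse (sig D T i r) < _
      rw [← hsplit]
      exact hP.1.2) (Subgroup.mem_subgroupOf.2 hb)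
    rw [h1] at hbg
    refine ⟨⟨t, ⟨_, hbg⟩⟩, Subtype.ext ?_⟩
    show xG hc hp t * (nG hc i (1 : F) * ((nG hc i (1 : F))⁻¹ * bg * nG hc i (1 : F)) *
      (nG hc i (1 : F))⁻¹) = g
    rw [show nG hc i (1 : F) * ((nG hc i (1 : F))⁻¹ * bg * nG hc i (1 : F)) * (nG hc i (1 : F))⁻¹ = bg by group]
    exact Subtype.ext e.symm

theorem card_uw_step (i : Fin D.rank) (L : List (Fin D.rank))
    (hpos : D.nroots / 2 ≤ sigs D T L.reverse (D.simple i.val)) :
    Nat.card (Uw D T F L) < Nat.card (Uw D T F (i :: L)) := by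
  rw [← Nat.card_congr (stepEquiv (F := F) hc hcomm i L hpos), Nat.card_prod,
    Nat.card_eq_fintype_card (α := F)]
  exact lt_mul_of_one_lt_left Nat.card_pos Fintype.one_lt_card

theorem wOp_step (i : Fin D.rank) (L : List (Fin D.rank))
    (hpos : D.nroots / 2 ≤ sigs D T L.reverse (D.simple i.val)) (v : V) :
    rOp hc ρ i (wOp hc ρ L v) = wOp hc ρ (i :: L) v := by
  classical
  letI := Fintype.ofFinite ↥(Uw D T F L)
  letI := Fintype.ofFinite ↥(Uw D T F (i :: L))
  rw [rOp, wOp, wOp, LinearMap.sum_apply, LinearMap.sum_apply, LinearMap.sum_apply]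
  simp only [map_sum]
  refine (Fintype.sum_prod_type' fun (t : F) (u : ↥(Uw D T F L)) =>
    ρ (xG hc (simple_lt hc i.2) t * nG hc i 1) (ρ ((u : ↥(D.group F)) * nW hc L) v)).symm.trans ?_
  refine Fintype.sum_equiv (stepEquiv hc hcomm i L hpos) _ _ fun x => ?_
  rw [rep_mul, nW_cons]
  congr 2
  show _ = xG hc _ x.1 * (nG hc i 1 * (x.2 : ↥(D.group F)) * (nG hc i 1)⁻¹) * (nG hc i 1 * nW hc L)
  group

theorem fixed_wOp (L : List (Fin D.rank)) {v : V} (hv : Fixed ρ v) : Fixed ρ (wOp hc ρ L v) := by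
  classical
  letI := Fintype.ofFinite ↥(Uw D T F L)
  intro g hg
  have hsp : ∀ x : ↥(D.group F), x ∈ Ug D F → ∃ a ∈ Uw D T F L,
      ∃ b ∈ (uGen D F (KeepRoot D T L.reverse)).subgroupOf (D.group F), x = a * b := by
    intro x hx
    obtain ⟨a, ha, b, hb, e⟩ := uGen_split hc hcomm (closedPos_pos hc)
      (Q := InvRoot D T L.reverse) (R := KeepRoot D T L.reverse)
      (fun r _ hp => (Nat.lt_or_ge (sigs D T L.reverse r) (D.nroots / 2)).imp
        (fun g => ⟨hp, g⟩) (fun g => ⟨hp, g⟩)) (Subgroup.mem_subgroupOf.1 hx)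
    exact ⟨⟨a, pos_le_group hc (uGen_mono (fun _ _ h => h.1) ha)⟩, Subgroup.mem_subgroupOf.2 ha,
      ⟨b, pos_le_group hc (uGen_mono (fun _ _ h => h.1) hb)⟩, Subgroup.mem_subgroupOf.2 hb,
      Subtype.ext e⟩
  have hle : ∀ u : ↥(Uw D T F L), (u : ↥(D.group F)) ∈ Ug D F := fun u =>
    Subgroup.mem_subgroupOf.2 (uInv_le_pos hc _ (Subgroup.mem_subgroupOf.1 u.2))
  choose φ hφ ψ hψ heq using fun u : ↥(Uw D T F L) => hsp (g * u) (mul_mem hg (hle u))
  have hinj : Function.Injective fun u => (⟨φ u, hφ u⟩ : ↥(Uw D T F L)) := by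
    intro u u' e
    have e' : φ u = φ u' := congrArg Subtype.val e
    have h1 : (u : ↥(D.group F))⁻¹ * u' = (ψ u)⁻¹ * ψ u' := by
      calc (u : ↥(D.group F))⁻¹ * u' = (g * (u : ↥(D.group F)))⁻¹ * (g * (u' : ↥(D.group F))) := by group
        _ = (φ u * ψ u)⁻¹ * (φ u' * ψ u') := by rw [← heq, ← heq]
        _ = _ := by rw [e']; group
    have hk := nW_conj_gen hc L.reverse (Q := fun r => D.nroots / 2 ≤ r) (fun r _ h => h.2)
      (mul_mem (inv_mem (hψ u)) (hψ u'))
    have hn := nW_conj_gen hc L.reverse (Q := fun r => r < D.nroots / 2) (fun r _ h => h.2)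
      (mul_mem (inv_mem u.2) u'.2)
    rw [h1] at hn
    have := borel_inf_neg hc (pos_le_borel hc (Subgroup.mem_subgroupOf.1 hk))
      (Subgroup.mem_subgroupOf.1 hn)
    have h2 : nW hc L.reverse * ((u : ↥(D.group F))⁻¹ * (u' : ↥(D.group F))) * (nW hc L.reverse)⁻¹ = 1 := by
      rw [h1]; exact Subtype.ext this
    exact Subtype.ext (inv_mul_eq_one.1 (conj_eq_one_iff.1 h2))
  rw [wOp, LinearMap.sum_apply, map_sum]
  refine Fintype.sum_equiv (Equiv.ofBijective _ (Finite.injective_iff_bijective.1 hinj)) _ _ fun u => ?_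
  rw [rep_mul, ← mul_assoc, heq]
  show ρ (φ u * ψ u * nW hc L) v = ρ (φ u * nW hc L) v
  have hm : (nW hc L)⁻¹ * ψ u * nW hc L ∈ Ug D F :=
    nW_conj_gen' hc L (fun r _ h => h.2) (hψ u)
  conv_rhs => rw [← hv _ hm, rep_mul]
  congr 2
  group

theorem fixed_rOp (i : Fin D.rank) {v : V} (hv : Fixed ρ v) : Fixed ρ (rOp hc ρ i v) := by
  have := wOp_step (ρ := ρ) hc hcomm i [] (half_le_simple hc i.2) v
  rw [wOp_nil] at this
  rw [this]
  exact fixed_wOp hc hcomm _ hv

end basic

section rankOne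

variable {ρ : Representation k ↥(D.group F) V}
include hc

omit [Fintype F] in
theorem n_x_n (i : Fin D.rank) (t : Fˣ) :
    ∃ u ∈ Ug D F, nG hc i 1 * xG hc (simple_lt hc i.2) ((eta D T i (D.simple i.val) : F) * t) *
      nG hc i 1 = xG hc (simple_lt hc i.2) ((t : F)⁻¹) * nG hc i 1 * hG hc i t * u := by
  have hp := simple_lt hc i.2
  set η : F := (eta D T i (D.simple i.val) : F) with hη
  set n := nG hc i (1 : F) with hn
  let c : Fˣ := -(t⁻¹)
  have hσ : η * (η * (t : F)) = -(c : F)⁻¹ := by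
    rcases eta_cast hc (F := F) i hp with e | e <;> simp [c, hη, e]
  have hnnH : ((n * n : ↥(D.group F)) : GL D.Idx F) ∈ D.diagonalSubgroup F := elN_simple_sq hc i
  have hg : hG hc i t = n⁻¹ * nG hc i (c : F) * n * n := by
    apply Subtype.ext
    show torus D T F (corChar D T (D.simple i.val) t) = (elN D F (D.simple i.val) (1 : F))⁻¹ *
      elN D F (D.simple i.val) ((-t⁻¹ : Fˣ) : F) * elN D F (D.simple i.val) 1 * elN D F (D.simple i.val) 1
    have h1 := elN_mul_inv hc (F := F) hp (-t⁻¹) (-1)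
    rw [elN_inv hc hp, show (-((-1 : Fˣ) : F)) = 1 by simp,
      show (-t⁻¹) / (-1 : Fˣ) = t⁻¹ by rw [neg_div_neg_eq, div_one], ← reflChar_corChar hc i t,
      ← nOne_conj_torus hc i] at h1
    rw [show ∀ a b : GL D.Idx F, a⁻¹ * b * a * a = a⁻¹ * (b * a) * a from fun a b => by group, h1]
    group
  refine ⟨(n * n)⁻¹ * xG hc hp (-(c : F)) * (n * n), Subgroup.mem_subgroupOf.2
    (diag_conj_mem' hc (fun r => D.nroots / 2 ≤ r) hnnH
      (elX_mem_uGen hp (P := fun r => D.nroots / 2 ≤ r) (half_le_simple hc i.2) _)), ?_⟩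
  have ht : (t : F)⁻¹ = -(c : F) := by simp [c]
  rw [hg, ht]
  apply Subtype.ext
  show elN D F (D.simple i.val) 1 * elX D F (D.simple i.val) (η * (t : F)) *
      elN D F (D.simple i.val) 1 =
    elX D F (D.simple i.val) (-(c : F)) * elN D F (D.simple i.val) 1 *
      ((elN D F (D.simple i.val) 1)⁻¹ * elN D F (D.simple i.val) (c : F) *
        elN D F (D.simple i.val) 1 * elN D F (D.simple i.val) 1) *
      ((elN D F (D.simple i.val) 1 * elN D F (D.simple i.val) 1)⁻¹ *
        elX D F (D.simple i.val) (-(c : F)) *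
        (elN D F (D.simple i.val) 1 * elN D F (D.simple i.val) 1))
  have h3 := nOne_conj_elX hc (F := F) i hp (η * (t : F))
  rw [sig_simple hc, ← hη, hσ, neg_elX_eq hc hp (neg_ne_zero.2 (inv_ne_zero c.ne_zero)),
    inv_neg, inv_inv, neg_neg] at h3
  rw [show ∀ a b : GL D.Idx F, a * b * a = a * b * a⁻¹ * (a * a) from fun a b => by group, h3]
  group

variable (p : ℕ) [Fact p.Prime] [CharP F p] [CharP k p]
include p

theorem card_cast_zero : (Fintype.card F : k) = 0 :=
  (CharP.cast_eq_zero_iff k p _).2 ((CharP.cast_eq_zero_iff F p _).1 (Nat.cast_card_eq_zero F))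

/-- the quadratic relation -/
theorem rOp_rOp (i : Fin D.rank) {z : V} (hz : Fixed ρ z) (ψ : Fˣ → k)
    (hψ : ∀ t, ρ (hG hc i t) z = ψ t • z) :
    (∃ a : k, ρ (nG hc i 1 * nG hc i 1) z = a • z) →
    rOp hc ρ i (rOp hc ρ i z) = (∑ t, ψ t) • rOp hc ρ i z := by
  classical
  rintro ⟨a, ha⟩
  have hp := simple_lt hc i.2
  set η : F := (eta D T i (D.simple i.val) : F) with hη
  have hη0 : η ≠ 0 := by rcases eta_cast hc (F := F) i hp with e | e <;> simp [hη, e]
  have hxx : ∀ s s' : F, xG hc hp s * xG hc hp s' = xG hc hp (s + s') := fun s s' =>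
    Subtype.ext (elX_add hc F hp s s')
  have hx0 : xG hc hp (0 : F) = 1 := Subtype.ext (elX_zero hc F hp)
  let S : F → V := fun s => ∑ b : F, ρ (xG hc hp b * nG hc i 1) (ρ (xG hc hp s * nG hc i 1) z)
  have hS : rOp hc ρ i (rOp hc ρ i z) = ∑ s : F, S s := by
    simp only [rOp, LinearMap.sum_apply, map_sum]
    rfl
  have h0 : S 0 = 0 := by
    show ∑ b : F, ρ (xG hc hp b * nG hc i 1) (ρ (xG hc hp 0 * nG hc i 1) z) = 0
    rw [hx0, one_mul, Finset.sum_congr rfl (g := fun _ => a • z) fun b _ => ?_, Finset.sum_const,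
      Finset.card_univ, ← Nat.cast_smul_eq_nsmul k, card_cast_zero hc p, zero_smul]
    rw [rep_mul, mul_assoc, ← rep_mul, ha, map_smul,
      hz _ (Subgroup.mem_subgroupOf.2 (elX_mem_uGen hp (P := fun r => D.nroots / 2 ≤ r)
        (half_le_simple hc i.2) b))]
  have hne : ∀ t : Fˣ, S (η * t) = ψ t • rOp hc ρ i z := by
    intro t
    obtain ⟨u, hu, e⟩ := n_x_n hc i t
    simp only [S, rOp, LinearMap.sum_apply, Finset.smul_sum]
    refine Fintype.sum_equiv (Equiv.addRight (t : F)⁻¹) _ _ fun b => ?_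
    rw [rep_mul, show xG hc hp b * nG hc i 1 * (xG hc hp (η * ↑t) * nG hc i 1) =
      xG hc hp b * (nG hc i 1 * xG hc hp (η * ↑t) * nG hc i 1) by group, e,
      show xG hc hp b * (xG hc hp (↑t)⁻¹ * nG hc i 1 * hG hc i t * u) =
        (xG hc hp b * xG hc hp (↑t)⁻¹) * nG hc i 1 * (hG hc i t * u) by group, hxx, ← rep_mul,
      ← rep_mul (hG hc i t), hz u hu, hψ, map_smul]
    rfl
  rw [hS, Fintype.sum_eq_add_sum_compl (0 : F), h0, zero_add, Finset.sum_smul]
  symm
  refine Finset.sum_bij (fun t _ => η * (t : F)) (fun t _ => by simp [hη0])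
    (fun t _ t' _ h => Units.ext (mul_left_cancel₀ hη0 h))
    (fun s hs => ⟨Units.mk0 (η⁻¹ * s) (mul_ne_zero (inv_ne_zero hη0) (by simpa using hs)),
      Finset.mem_univ _, by simp [hη0]⟩) fun t _ => (hne t).symm

theorem sum_hom_cases (f : Fˣ →* kˣ) :
    (∑ t, (f t : k)) = if f = 1 then -1 else 0 := by
  classical
  have h := sum_hom_units ((Units.coeHom k).comp f)
  rw [show (∑ t, (f t : k)) = ∑ t, ((Units.coeHom k).comp f) t from rfl, h]
  by_cases hf : f = 1
  · rw [if_pos hf, if_pos (by subst hf; ext; simp)]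
    rw [Fintype.card_units, Nat.cast_sub (Fintype.card_pos), card_cast_zero hc p, Nat.cast_one, zero_sub]
  · rw [if_neg hf, if_neg fun e => hf (MonoidHom.ext fun t => Units.ext (DFunLike.congr_fun e t)), Nat.cast_zero]

end rankOne

section existence

variable {ρ : Representation k ↥(D.group F) V}
include hc

omit [Fintype F] in
theorem heig_of_hG {y : V} (h : ∀ i t, ∃ a : k, ρ (hG hc i t) y = a • y) : HEig ρ y := by
  intro g hg
  obtain ⟨c, hcd⟩ := (mem_diagonal hc).1 (Subgroup.mem_subgroupOf.1 hg)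
  rw [hPar_eq_corChar hc (T := T)] at hcd
  have key : ∀ χ : Fin D.rank → Fˣ, (∀ g : ↥(D.group F), (g : GL D.Idx F) = torus D T F χ →
      ∃ a : k, ρ g y = a • y) → ∀ ψ : Fin D.rank → Fˣ, (∀ g : ↥(D.group F),
      (g : GL D.Idx F) = torus D T F ψ → ∃ a : k, ρ g y = a • y) →
      torus D T F χ ∈ D.group F → ∀ g : ↥(D.group F), (g : GL D.Idx F) = torus D T F (χ * ψ) →
        ∃ a : k, ρ g y = a • y := by
    intro χ hχ ψ hψ hχm g hg
    obtain ⟨a, ha⟩ := hχ ⟨_, hχm⟩ rfl
    have hψm : torus D T F ψ ∈ D.group F := by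
      rw [show torus D T F ψ = (torus D T F χ)⁻¹ * g by rw [hg, map_mul, inv_mul_cancel_left]]
      exact mul_mem (inv_mem hχm) g.2
    obtain ⟨b, hb⟩ := hψ ⟨_, hψm⟩ rfl
    refine ⟨b * a, ?_⟩
    rw [show g = (⟨_, hχm⟩ : ↥(D.group F)) * ⟨_, hψm⟩ from Subtype.ext (hg.trans (map_mul _ _ _)),
      ← rep_mul, hb, map_smul, ha, smul_smul]
  have hall := Finset.prod_induction (fun i : Fin D.rank => corChar D T (D.simple i.val) (c i))
    (fun χ => torus D T F χ ∈ D.group F ∧ ∀ g : ↥(D.group F), (g : GL D.Idx F) = torus D T F χ →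
      ∃ a : k, ρ g y = a • y) (s := Finset.univ)
    (fun χ ψ hχ hψ => ⟨by rw [map_mul]; exact mul_mem hχ.1 hψ.1, key χ hχ.2 ψ hψ.2 hχ.1⟩)
    ⟨by rw [map_one]; exact one_mem _, fun g hg => ⟨1, by
      rw [show g = 1 from Subtype.ext (by rw [hg, map_one]; rfl), map_one, one_smul]; rfl⟩⟩
    (fun i _ => ⟨diagonal_le_group hc (torus_corChar_mem hc _), fun g hg => by
      rw [show g = hG hc i (c i) from Subtype.ext hg]; exact h i (c i)⟩)
  exact hall.2 g hcd.symm

theorem IsWtVec.heig {w : Wt D F k} {y : V} (hy : IsWtVec hc ρ w y) : HEig ρ y :=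
  heig_of_hG hc fun i t => ⟨_, hy.2.2.1 i t⟩

omit [Fintype F] in
theorem nn_eig (i : Fin D.rank) {y : V} (hy : HEig ρ y) :
    ∃ a : k, ρ (nG hc i 1 * nG hc i 1) y = a • y :=
  hy _ (Subgroup.mem_subgroupOf.2 (elN_simple_sq hc i))

variable (hcomm : CommOne D T) (p : ℕ) [Fact p.Prime] [CharP F p] [CharP k p]
include hcomm p

theorem exists_fixed_ne_zero (hV : ∃ v : V, v ≠ 0) : ∃ v : V, v ≠ 0 ∧ Fixed ρ v := by
  classical
  obtain ⟨v0, hv0⟩ := hV
  haveI : Finite ↥(Ug D F) := inferInstance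
  haveI : Finite (GL D.Idx F) := inferInstance
  have hU : IsPGroup p ↥(Ug D F) := IsPGroup.of_card (n := (Nat.card ↥(D.group F)).factorization p) (by
    rw [Nat.card_congr (Subgroup.subgroupOfEquivOfLe (pos_le_group hc (F := F))).toEquiv,
      ← posUnipotent_eq hc]
    exact factorization_posUnipotent hc hcomm p)
  letI : MulAction ↥(Ug D F) V :=
    { smul := fun u v => ρ (u : ↥(D.group F)) v
      one_smul := fun v => by
        show ρ ((1 : ↥(Ug D F)) : ↥(D.group F)) v = v
        rw [OneMemClass.coe_one, map_one]; rfl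
      mul_smul := fun a b v => by
        show ρ ((a * b : ↥(Ug D F)) : ↥(D.group F)) v = ρ a (ρ b v)
        rw [rep_mul]; rfl }
  let Φ : (↥(Ug D F) → ZMod p) →+ V :=
    { toFun := fun c => ∑ u, (ZMod.castHom (dvd_refl p) k (c u)) • ρ (u : ↥(D.group F)) v0
      map_zero' := by simp
      map_add' := fun a b => by simp [add_smul, Finset.sum_add_distrib] }
  haveI : NeZero p := ⟨(Fact.out : p.Prime).ne_zero⟩
  let X : SubMulAction ↥(Ug D F) V := ⟨(Φ.range : Set V), fun g x hx => by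
    obtain ⟨c, rfl⟩ := hx
    refine ⟨fun u => c (g⁻¹ * u), ?_⟩
    show ∑ u, _ = ρ (g : ↥(D.group F)) (∑ u, _)
    rw [map_sum]
    refine Fintype.sum_equiv (Equiv.mulLeft g⁻¹) _ _ fun u => ?_
    rw [map_smul, rep_mul]
    congr 2
    simp⟩
  haveI : Finite Φ.range := Finite.of_surjective Φ.rangeRestrict Φ.rangeRestrict_surjective
  haveI : Finite X := inferInstanceAs (Finite Φ.range)
  have hv0X : v0 ∈ Φ.range := ⟨Pi.single 1 1, by
    show ∑ u, _ = v0
    rw [Finset.sum_eq_single (1 : ↥(Ug D F))]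
    · simp
    · intro u _ hu; simp [hu]
    · simp⟩
  have hdvd : p ∣ Nat.card X := by
    show p ∣ Nat.card Φ.range
    have h := addOrderOf_dvd_natCard (⟨v0, hv0X⟩ : Φ.range)
    rwa [addOrderOf_eq_prime (Subtype.ext (by
      show p • v0 = 0
      rw [← Nat.cast_smul_eq_nsmul k, CharP.cast_eq_zero, zero_smul]))
      (fun h0 => hv0 (congrArg Subtype.val h0))] at h
  let z : X := ⟨0, ⟨0, map_zero Φ⟩⟩
  have hz : z ∈ MulAction.fixedPoints ↥(Ug D F) X := fun g => Subtype.ext (map_zero (ρ g))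
  obtain ⟨b, hb, hne⟩ := hU.exists_fixed_point_of_prime_dvd_card_of_fixed_point X hdvd hz
  exact ⟨b.1, fun e => hne (Subtype.ext e.symm), fun u hu => congrArg Subtype.val (hb ⟨u, hu⟩)⟩

end existence

end CfsgLib.ModularCount
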