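import Cfsg.Agent.Lib.ModularCount.Weights

/-!
The torus parametrisation is injective when the determinant of the Cartan matrix is prime to `q - 1`.
-/

set_option autoImplicit false

namespace CfsgLib.ModularCount

open Cfsg.Lie CfsgLib.Chev

/-- `B` inverts the Cartan matrix up to the factor `d`. -/
def InvCheck (D : ChevalleyDatum) (B : List (List ℤ)) (d : ℕ) : Prop :=
  ∀ i m : Fin D.rank, ((List.finRange D.rank).map fun j : Fin D.rank =>
    cm D i j * (B.getD j.val []).getD m.val 0).sum = if i = m then (d : ℤ) else 0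

theorem hPar_injective {D : ChevalleyDatum} {F : Type*} [Field F] [Fintype F] {B : List (List ℤ)} {d : ℕ}
    (hB : InvCheck D B d) (hd : Nat.Coprime d (Fintype.card F - 1)) :
    Function.Injective (hPar D F) := by
  rw [injective_iff_map_eq_one]
  intro c hc
  funext m
  have h1 : ∀ j, ∏ i, c i ^ cm D i j = 1 := fun j => congrFun hc j
  have h2 : c m ^ (d : ℤ) = 1 := by
    have h3 : ∀ i, ∑ j, cm D i j * (B.getD j.val []).getD m.val 0 = if i = m then (d : ℤ) else 0 := by
      intro i
      rw [← hB i m, ← List.sum_toFinset _ (List.nodup_finRange _), List.toFinset_finRange]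
    calc c m ^ (d : ℤ) = ∏ i, c i ^ (if i = m then (d : ℤ) else 0) := by
          rw [Fintype.prod_eq_single m (fun i hi => by rw [if_neg hi, zpow_zero]), if_pos rfl]
      _ = ∏ i, ∏ j, (c i ^ cm D i j) ^ (B.getD j.val []).getD m.val 0 :=
          Finset.prod_congr rfl fun i _ => by simp only [← zpow_mul, prod_zpow_sum, h3]
      _ = 1 := by
          rw [Finset.prod_comm]
          exact Finset.prod_eq_one fun j _ => by rw [Finset.prod_zpow, h1, one_zpow]
  rw [zpow_natCast] at h2
  have h4 : orderOf (c m) ∣ Fintype.card F - 1 := by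
    classical
    rw [← Fintype.card_units]
    exact orderOf_dvd_card
  exact orderOf_eq_one_iff.1 (Nat.eq_one_of_dvd_coprimes hd (orderOf_dvd_of_pow_eq_one h2) h4)

theorem coprime_pow_two_pred {F : Type*} [Field F] [Fintype F] [CharP F 2] (n : ℕ) :
    Nat.Coprime (2 ^ n) (Fintype.card F - 1) := by
  refine Nat.Coprime.pow_left n ((Nat.prime_two.coprime_iff_not_dvd).2 fun h => ?_)
  have h2 : 2 ∣ Fintype.card F := (CharP.cast_eq_zero_iff F 2 _).1 (Nat.cast_card_eq_zero F)
  have := Fintype.card_pos (α := F)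
  omega

/-- an inverse up to a factor -/
def invG2 : List (List ℤ) := [[2, 3], [1, 2]]

/-- an inverse up to a factor -/
def invB2 : List (List ℤ) := [[2, 2], [1, 2]]

/-- an inverse up to a factor -/
def invD4 : List (List ℤ) := [[4, 4, 2, 2], [4, 8, 4, 4], [2, 4, 4, 2], [2, 4, 2, 4]]

/-- an inverse up to a factor -/
def invF4 : List (List ℤ) := [[2, 3, 4, 2], [3, 6, 8, 4], [2, 4, 6, 3], [1, 2, 3, 2]]

/-- an inverse up to a factor -/
def invE6 : List (List ℤ) := [[4, 3, 5, 6, 4, 2], [3, 6, 6, 9, 6, 3], [5, 6, 10, 12, 8, 4], [6, 9, 12, 18, 12, 6], [4, 6, 8, 12, 10, 5], [2, 3, 4, 6, 5, 4]]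

/-- an inverse up to a factor -/
def invE7 : List (List ℤ) := [[4, 4, 6, 8, 6, 4, 2], [4, 7, 8, 12, 9, 6, 3], [6, 8, 12, 16, 12, 8, 4], [8, 12, 16, 24, 18, 12, 6], [6, 9, 12, 18, 15, 10, 5], [4, 6, 8, 12, 10, 8, 4], [2, 3, 4, 6, 5, 4, 3]]

/-- an inverse up to a factor -/
def invE8 : List (List ℤ) := [[4, 5, 7, 10, 8, 6, 4, 2], [5, 8, 10, 15, 12, 9, 6, 3], [7, 10, 14, 20, 16, 12, 8, 4], [10, 15, 20, 30, 24, 18, 12, 6], [8, 12, 16, 24, 20, 15, 10, 5], [6, 9, 12, 18, 15, 12, 8, 4], [4, 6, 8, 12, 10, 8, 6, 3], [2, 3, 4, 6, 5, 4, 3, 2]]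

theorem inj_G2 {F : Type*} [Field F] [Fintype F] : Function.Injective (hPar chevG2 F) :=
  hPar_injective (B := invG2) (d := 1) (by unfold InvCheck; decide +kernel) (Nat.coprime_one_left _)

theorem inj_F4 {F : Type*} [Field F] [Fintype F] : Function.Injective (hPar chevF4 F) :=
  hPar_injective (B := invF4) (d := 1) (by unfold InvCheck; decide +kernel) (Nat.coprime_one_left _)

theorem inj_E8 {F : Type*} [Field F] [Fintype F] : Function.Injective (hPar chevE8 F) :=
  hPar_injective (B := invE8) (d := 1) (by unfold InvCheck; decide +kernel) (Nat.coprime_one_left _)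

theorem inj_B2 {F : Type*} [Field F] [Fintype F] [CharP F 2] : Function.Injective (hPar chevB2 F) :=
  hPar_injective (B := invB2) (d := 2 ^ 1) (by unfold InvCheck; decide +kernel) (coprime_pow_two_pred _)

theorem inj_D4 {F : Type*} [Field F] [Fintype F] [CharP F 2] : Function.Injective (hPar chevD4 F) :=
  hPar_injective (B := invD4) (d := 2 ^ 2) (by unfold InvCheck; decide +kernel) (coprime_pow_two_pred _)

theorem inj_E7 {F : Type*} [Field F] [Fintype F] [CharP F 2] : Function.Injective (hPar chevE7 F) :=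
  hPar_injective (B := invE7) (d := 2 ^ 1) (by unfold InvCheck; decide +kernel) (coprime_pow_two_pred _)

theorem inj_E6 {F : Type*} [Field F] [Fintype F] (h : Fintype.card F % 3 ≠ 1) :
    Function.Injective (hPar chevE6 F) :=
  hPar_injective (B := invE6) (d := 3) (by unfold InvCheck; decide +kernel)
    ((Nat.prime_three.coprime_iff_not_dvd).2 fun h3 => by
      have := Fintype.one_lt_card (α := F)
      omega)

end CfsgLib.ModularCount
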