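import Cfsg.Agent.Lib.ModularCount.Chev

/-!
A simple module of a tabulated Chevalley group in the defining characteristic has exactly one weight,
and is determined by it.
-/

set_option autoImplicit false

open Module
open scoped Classical

namespace CfsgLib.ModularCount

open Cfsg.Lie CfsgLib.Chev
open scoped Matrix

universe u w w'

variable {D : ChevalleyDatum} {T : Tabs} {F : Type*} [Field F] [Fintype F]
  {k : Type u} [Field k] {V : Type w} [AddCommGroup V] [Module k V]
  {V' : Type w'} [AddCommGroup V'] [Module k V']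
  {ρ : Representation k ↥(D.group F) V} {σ : Representation k ↥(D.group F) V'}

variable (hc : Checked D T)
include hc

omit [Fintype F] in
theorem hg_comm {a b : ↥(D.group F)} (ha : a ∈ Hg D F) (hb : b ∈ Hg D F) : a * b = b * a := by
  obtain ⟨c, hca⟩ := (mem_diagonal hc).1 (Subgroup.mem_subgroupOf.1 ha)
  obtain ⟨d, hdb⟩ := (mem_diagonal hc).1 (Subgroup.mem_subgroupOf.1 hb)
  apply Subtype.ext
  show (a : GL D.Idx F) * b = b * a
  rw [← hca, ← hdb, ← map_mul (torus D T F), ← map_mul (torus D T F), mul_comm (hPar D F c)]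

omit [Fintype F] in
theorem fixed_hg {v : V} (hv : Fixed ρ v) {h : ↥(D.group F)} (hh : h ∈ Hg D F) : Fixed ρ (ρ h v) := by
  intro u hu
  have h1 := hg_normalizes hc _ (inv_mem hh) hu
  rw [inv_inv] at h1
  conv_rhs => rw [← hv _ h1]
  rw [rep_mul, rep_mul]
  congr 2
  group

variable (hcomm : CommOne D T) (p : ℕ) [Fact p.Prime] [CharP F p] [CharP k p]
include hcomm p

theorem exists_fixed_heig [IsAlgClosed k] [FiniteDimensional k V] (hV : ∃ v : V, v ≠ 0) :
    ∃ v : V, v ≠ 0 ∧ Fixed ρ v ∧ HEig ρ v := by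
  obtain ⟨v0, hv0, hf0⟩ := exists_fixed_ne_zero (ρ := ρ) hc hcomm p hV
  let K : Submodule k V :=
    { carrier := {v | Fixed ρ v}
      zero_mem' := fun u _ => map_zero _
      add_mem' := fun hx hy u hu => by rw [map_add, hx u hu, hy u hu]
      smul_mem' := fun c x hx u hu => by rw [map_smul, hx u hu] }
  let P : ℕ → Prop := fun n => ∃ W : Submodule k V, W ≤ K ∧ W ≠ ⊥ ∧
    (∀ h ∈ Hg D F, ∀ v ∈ W, ρ h v ∈ W) ∧ finrank k W = n
  have hP : ∃ n, P n := ⟨_, K, le_rfl, fun h => hv0 ((Submodule.mem_bot k).1 (h ▸ (hf0 : v0 ∈ K))),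
    fun h hh v hv => fixed_hg hc hv hh, rfl⟩
  obtain ⟨W, hWK, hne, hinv, hdim⟩ := Nat.find_spec hP
  obtain ⟨v, hv, hv1⟩ := Submodule.exists_mem_ne_zero_of_ne_bot hne
  refine ⟨v, hv1, hWK hv, fun h hh => ?_⟩
  haveI : Nontrivial W := Submodule.nontrivial_iff_ne_bot.2 hne
  obtain ⟨a, ha⟩ := Module.End.exists_eigenvalue ((ρ h).restrict (hinv h hh))
  obtain ⟨⟨e, heW⟩, he⟩ := ha.exists_hasEigenvector
  have he1 : ρ h e = a • e := congrArg Subtype.val he.apply_eq_smul
  let W' : Submodule k V := W ⊓ LinearMap.ker (ρ h - a • LinearMap.id)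
  have hmem : ∀ x, x ∈ W' ↔ x ∈ W ∧ ρ h x = a • x := fun x => by simp [W', sub_eq_zero]
  have hne' : W' ≠ ⊥ := fun h0 => he.2 (Subtype.ext
    ((Submodule.mem_bot k).1 (h0 ▸ ((hmem e).2 ⟨heW, he1⟩))))
  have hle : finrank k W ≤ finrank k W' := by
    rw [hdim]
    refine Nat.find_min' hP ⟨W', inf_le_left.trans hWK, hne', fun g hg x hx => ?_, rfl⟩
    rw [hmem] at hx ⊢
    exact ⟨hinv g hg x hx.1, by rw [rep_mul, hg_comm hc hh hg, ← rep_mul, hx.2, map_smul]⟩
  have heq : W' = W := Submodule.eq_of_le_of_finrank_le inf_le_left hle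
  exact ⟨a, ((hmem v).1 (heq.symm ▸ hv)).2⟩

/-- every nonzero representation has a weight vector -/
theorem exists_wtVec [IsAlgClosed k] [FiniteDimensional k V] (hV : ∃ v : V, v ≠ 0) :
    ∃ (w : Wt D F k) (y : V), IsWtVec hc ρ w y := by
  obtain ⟨v, hv0, hvf, hvh⟩ := exists_fixed_heig (ρ := ρ) hc hcomm p hV
  let S : Set ℕ := {n | ∃ L : List (Fin D.rank), wOp hc ρ L v ≠ 0 ∧ Nat.card (Uw D T F L) = n}
  have hbdd : BddAbove S := ⟨Nat.card ↥(D.group F), by
    rintro n ⟨L, -, rfl⟩
    exact Subgroup.card_le_card_group _⟩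
  have hneS : S.Nonempty := ⟨_, [], by rwa [wOp_nil], rfl⟩
  obtain ⟨L, hL, hcard⟩ := Nat.sSup_mem hneS hbdd
  have hmax : ∀ M, Nat.card (Uw D T F L) < Nat.card (Uw D T F M) → wOp hc ρ M v = 0 := fun M h => by
    by_contra h'
    have : Nat.card (Uw D T F M) ≤ sSup S := le_csSup hbdd ⟨M, h', rfl⟩
    omega
  set y := wOp hc ρ L v with hy
  have hyf : Fixed ρ y := fixed_wOp hc hcomm L hvf
  have hyh : HEig ρ y := hEig_wOp hc L hvh
  choose ψ hψ using fun i t => hyh _ (hG_mem hc i t)
  have hψ0 : ∀ i t, ψ i t ≠ 0 := fun i t h => hL (by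
    have h1 := congrArg (ρ (hG hc i t)⁻¹) (hψ i t)
    rw [rep_mul, inv_mul_cancel, map_one, map_smul, h, zero_smul] at h1
    exact h1)
  let χ : Fin D.rank → (Fˣ →* kˣ) := fun i =>
    { toFun := fun t => Units.mk0 (ψ i t) (hψ0 i t)
      map_one' := Units.ext (smul_left_injective k hL (by
        show ψ i 1 • y = (1 : k) • y
        rw [← hψ, map_one, map_one, one_smul]; rfl))
      map_mul' := fun a b => Units.ext (smul_left_injective k hL (by
        show ψ i (a * b) • y = (ψ i a * ψ i b) • y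
        rw [← hψ, map_mul, ← rep_mul, hψ, map_smul, hψ, smul_smul, mul_comm])) }
  have hμ : ∀ i, rOp hc ρ i y = 0 ∨ rOp hc ρ i y = (-1 : k) • y ∧ χ i = 1 := by
    intro i
    by_cases hpos : D.nroots / 2 ≤ sigs D T L.reverse (D.simple i.val)
    · left
      rw [hy, wOp_step hc hcomm i L hpos]
      exact hmax _ (card_uw_step hc hcomm i L hpos)
    · set z := wOp hc ρ (i :: L) v with hz
      have hpos' : D.nroots / 2 ≤ sigs D T (i :: L).reverse (D.simple i.val) := by
        rw [List.reverse_cons, sigs_append]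
        show _ ≤ sigs D T L.reverse (sig D T i (D.simple i.val))
        rw [sig_simple hc, sigs_neg hc _ (simple_lt hc i.2)]
        have h1 := sigs_lt hc L.reverse (T := T) (simple_lt hc i.2)
        have e : D.neg (sigs D T L.reverse (D.simple i.val)) = _ := neg_eq hc h1
        have := nroots_eq_two_mul hc
        omega
      have hperm : ∀ r, r < D.nroots → sigs D T (i :: i :: L) r = sigs D T L r := fun r hr =>
        sig_sig hc i (sigs_lt hc L hr)
      obtain ⟨a, ha⟩ := hvh _ (nW_div_mem (F := F) hc hperm)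
      have hRz : rOp hc ρ i z = a • y := by
        rw [hz, wOp_step hc hcomm i _ hpos', wOp_congr hc hperm, ha, map_smul]
      have ha0 : a ≠ 0 := fun h => hv0 (by
        have h1 := congrArg (ρ ((nW hc L)⁻¹ * nW hc (i :: i :: L))⁻¹) ha
        rw [rep_mul, inv_mul_cancel, map_one, map_smul, h, zero_smul] at h1
        exact h1)
      have hzf : Fixed ρ z := fixed_wOp hc hcomm _ hvf
      have hzh : HEig ρ z := hEig_wOp hc _ hvh
      have hz0 : z ≠ 0 := fun h => by
        rw [h, map_zero] at hRz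
        exact hL ((smul_eq_zero.1 hRz.symm).resolve_left ha0)
      choose θ hθ using fun t => hzh _ (hG_mem hc i t)
      have hθ0 : ∀ t, θ t ≠ 0 := fun t h => hz0 (by
        have h1 := congrArg (ρ (hG hc i t)⁻¹) (hθ t)
        rw [rep_mul, inv_mul_cancel, map_one, map_smul, h, zero_smul] at h1
        exact h1)
      let θ' : Fˣ →* kˣ :=
        { toFun := fun t => Units.mk0 (θ t) (hθ0 t)
          map_one' := Units.ext (smul_left_injective k hz0 (by
            show θ 1 • z = (1 : k) • z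
            rw [← hθ, map_one, map_one, one_smul]; rfl))
          map_mul' := fun a b => Units.ext (smul_left_injective k hz0 (by
            show θ (a * b) • z = (θ a * θ b) • z
            rw [← hθ, map_mul, ← rep_mul, hθ, map_smul, hθ, smul_smul, mul_comm])) }
      have h2 := rOp_rOp hc p i hzf θ hθ (nn_eig hc i hzh)
      rw [hRz, map_smul, show (∑ t, θ t) = if θ' = 1 then -1 else 0 from sum_hom_cases hc p θ',
        smul_comm] at h2
      have h3 : rOp hc ρ i y = (if θ' = 1 then (-1 : k) else 0) • y := smul_right_injective V ha0 h2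
      by_cases h : θ' = 1
      · right
        rw [if_pos h] at h3
        refine ⟨h3, ?_⟩
        have h4 := rOp_rOp hc p i hyf (ψ i) (hψ i) (nn_eig hc i hyh)
        rw [show (∑ t, ψ i t) = if χ i = 1 then -1 else 0 from sum_hom_cases hc p (χ i), h3, map_smul, h3] at h4
        by_contra hne
        rw [if_neg hne, zero_smul, smul_smul, neg_one_mul, neg_neg, one_smul] at h4
        exact hL h4
      · left
        rw [h3, if_neg h, zero_smul]
  let w : Wt D F k := fun i => if rOp hc ρ i y = 0 then some (χ i) else none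
  refine ⟨w, y, hL, hyf, fun i t => ?_, fun i => ?_⟩
  · rw [hψ]
    congr 1
    by_cases h : rOp hc ρ i y = 0
    · simp [chiW, w, h, χ]
    · obtain ⟨-, h1⟩ := (hμ i).resolve_left h
      have := DFunLike.congr_fun h1 t
      simp only [chiW, w, if_neg h, Option.getD_none, MonoidHom.one_apply, Units.val_one]
      exact congrArg Units.val this
  · by_cases h : rOp hc ρ i y = 0
    · simp [muW, w, h]
    · simpa [muW, w, h] using ((hμ i).resolve_left h).1

omit p [Fact p.Prime] [CharP F p] [CharP k p] in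
/-- the translates of a weight vector by the negative unipotent group span an invariant subspace -/
theorem span_um_invar {w : Wt D F k} {y : V} (hy : IsWtVec hc ρ w y) :
    Invar ρ (Submodule.span k (Set.range fun u : Ug' D F => ρ (u : ↥(D.group F)) y)) := by
  set M := Submodule.span k (Set.range fun u : Ug' D F => ρ (u : ↥(D.group F)) y) with hM
  have hmem : ∀ u ∈ Ug' D F, ρ u y ∈ M := fun u hu => Submodule.subset_span ⟨⟨u, hu⟩, rfl⟩
  have hstab : ∀ g : ↥(D.group F), (∀ u ∈ Ug' D F, ρ (g * u) y ∈ M) → ∀ v ∈ M, ρ g v ∈ M := by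
    intro g hg v hv
    induction hv using Submodule.span_induction with
    | mem x hx => obtain ⟨u, rfl⟩ := hx; rw [rep_mul]; exact hg u u.2
    | zero => rw [map_zero]; exact M.zero_mem
    | add a b _ _ ha hb => rw [map_add]; exact M.add_mem ha hb
    | smul c a _ ha => rw [map_smul]; exact M.smul_mem c ha
  have hUm : ∀ a ∈ Ug' D F, ∀ v ∈ M, ρ a v ∈ M := fun a ha =>
    hstab a fun u hu => hmem _ (mul_mem ha hu)
  have hH : ∀ h ∈ Hg D F, ∀ v ∈ M, ρ h v ∈ M := fun h hh => hstab h fun u hu => by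
    obtain ⟨a, ha⟩ := hy.heig hc h hh
    rw [show h * u = h * u * h⁻¹ * h by group, ← rep_mul, ha, map_smul]
    exact M.smul_mem a (hmem _ (hg_normalizes hc _ hh hu))
  have hn : ∀ i, ∀ v ∈ M, ρ (nG hc i 1) v ∈ M := by
    intro i
    set n := nG hc i (1 : F) with hndef
    have hp := simple_lt hc i.2
    have hnp := neg_lt hc hp
    have hnpm : D.neg (D.simple i.val) < D.nroots / 2 := (sig_neg_iff hc hp).2 (half_le_simple hc i.2)
    have hxneg : ∀ s, xG hc hnp s ∈ Ug' D F := fun s =>
      Subgroup.mem_subgroupOf.2 (elX_mem_uGen hnp (P := fun r => r < D.nroots / 2) hnpm s)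
    have hh2 : n * n ∈ Hg D F := Subgroup.mem_subgroupOf.2 (elN_simple_sq hc i)
    obtain ⟨a2, ha2⟩ := hy.heig hc _ hh2
    set η : F := (eta D T i (D.simple i.val) : F) with hη
    have hconjx : ∀ s : F, n * xG hc hp s * n⁻¹ = xG hc hnp (η * s) := fun s => Subtype.ext (by
      show elN D F (D.simple i.val) 1 * elX D F (D.simple i.val) s *
        (elN D F (D.simple i.val) 1)⁻¹ = _
      rw [nOne_conj_elX hc i hp, sig_simple hc]; rfl)
    have hne : ∀ t : Fˣ, ρ (xG hc hp ((t : F)⁻¹) * n) y ∈ M := by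
      intro t
      obtain ⟨u, hu, e⟩ := n_x_n hc i t
      have h1 : ρ (n * xG hc hp (η * t) * n) y = chiW w i t • ρ (xG hc hp ((t : F)⁻¹) * n) y := by
        rw [e, ← rep_mul _ u, hy.2.1 u hu, ← rep_mul _ (hG hc i t), hy.2.2.1, map_smul]
      have h2 : ρ (n * xG hc hp (η * t) * n) y ∈ M := by
        rw [show n * xG hc hp (η * t) * n = n * xG hc hp (η * t) * n⁻¹ * (n * n) by group, hconjx,
          ← rep_mul, ha2, map_smul]
        exact M.smul_mem _ (hmem _ (hxneg _))
      rw [h1] at h2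
      have hne0 : chiW w i t ≠ 0 := Units.ne_zero _
      simpa [smul_smul, inv_mul_cancel₀ hne0] using M.smul_mem (chiW w i t)⁻¹ h2
    have hall : ∀ s : F, ρ (xG hc hp s * n) y ∈ M := by
      intro s
      by_cases hs : s = 0
      · subst hs
        have h1 : rOp hc ρ i y ∈ M := by
          rw [hy.2.2.2 i]
          exact M.smul_mem _ (by simpa using hmem 1 (one_mem _))
        rw [rOp, LinearMap.sum_apply, Fintype.sum_eq_add_sum_compl (0 : F)] at h1
        refine (Submodule.add_mem_iff_left M (Submodule.sum_mem _ fun s hs => ?_)).1 h1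
        have := hne (Units.mk0 s⁻¹ (inv_ne_zero (by simpa using hs)))
        simpa using this
      · simpa using hne (Units.mk0 s⁻¹ (inv_ne_zero hs))
    refine hstab n fun u hu => ?_
    obtain ⟨L, hL⟩ := exists_longest hc
    set r0 := sigs D T L (D.neg (D.simple i.val)) with hr0
    have hLneg : ∀ r, r < D.nroots → r < D.nroots / 2 → D.nroots / 2 ≤ sigs D T L r := by
      intro r hr hrn
      have h1 := hL _ (neg_lt hc hr) (by
        have e : D.neg r = _ := neg_eq hc (a := r) hr
        have := nroots_eq_two_mul hc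
        omega)
      rw [sigs_neg hc L hr, sig_neg_iff hc (sigs_lt hc L hr)] at h1
      exact h1
    have hrev : ∀ r, r < D.nroots → D.nroots / 2 ≤ r → sigs D T L.reverse r < D.nroots / 2 := by
      intro r hr hrp
      by_contra hge
      have h1 := hL _ (sigs_lt hc L.reverse hr) (not_lt.1 hge)
      have h2 := sigs_reverse hc L.reverse hr
      rw [List.reverse_reverse] at h2
      omega
    obtain ⟨a, ha, b, hb, e⟩ := uGen_split hc hcomm (closedPos_pos hc)
      (Q := fun r => D.nroots / 2 ≤ r ∧ r ≠ r0) (R := fun r => r = r0)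
      (fun r _ hP => if h : r = r0 then Or.inr h else Or.inl ⟨hP, h⟩)
      (Subgroup.mem_subgroupOf.1 (nW_conj_gen hc L (Q := fun r => D.nroots / 2 ≤ r) hLneg hu))
    have hr0lt := sigs_lt hc L hnp
    rw [← rootSubgroup_eq hc hr0lt, mem_rootSubgroup hc hr0lt] at hb
    obtain ⟨s, rfl⟩ := hb
    let ag : ↥(D.group F) := ⟨a, pos_le_group hc (uGen_mono (fun _ _ h => h.1) ha)⟩
    have hmid := nW_conj_gen' hc L (g := ag)
      (Q := fun r => r < D.nroots / 2 ∧ r ≠ D.neg (D.simple i.val)) (fun r hr hP => ⟨hrev r hr hP.1, fun h => hP.2 (by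
        have h2 := sigs_reverse hc L.reverse hr
        rw [List.reverse_reverse] at h2
        rw [← h2, h])⟩) (Subgroup.mem_subgroupOf.2 ha)
    obtain ⟨c, -, hcx⟩ := nProd_conj_elX hc (F := F) L hnp
    have hu' : u = (nW hc L)⁻¹ * ag * nW hc L * xG hc hnp ((c : F)⁻¹ * s) := by
      have h1 : nW hc L * xG hc hnp ((c : F)⁻¹ * s) * (nW hc L)⁻¹ = xG hc hr0lt s := Subtype.ext (by
        show nProd D F L * elX D F _ _ * (nProd D F L)⁻¹ = _
        rw [hcx, mul_inv_cancel_left₀ c.ne_zero]; rfl)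
      have h2 : nW hc L * u * (nW hc L)⁻¹ = ag * xG hc hr0lt s := Subtype.ext e
      calc u = (nW hc L)⁻¹ * (nW hc L * u * (nW hc L)⁻¹) * nW hc L := by group
        _ = _ := by rw [h2, ← h1]; group
    have hm1 := nW_conj_gen hc [i] (Q := fun r => r < D.nroots / 2) (fun r hr hP => by
      have hsr := sig_lt hc i (T := T) hr
      show sig D T i r < _
      by_contra hge
      rw [not_lt] at hge
      have h4 : D.nroots / 2 ≤ D.neg r := by
        have e : D.neg r = _ := neg_eq hc (a := r) hr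
        have := hP.1
        have := nroots_eq_two_mul hc
        omega
      have h5 := (sig_pos hc i (neg_lt hc hr) h4 (fun h => hP.2 (by rw [← h, neg_neg_root hc hr]))).1
      rw [sig_neg hc i hr] at h5
      have h6 := (sig_neg_iff hc hsr).2 hge
      omega) hmid
    rw [show nW (F := F) hc [i] = n by rw [nW_cons]; exact mul_one _] at hm1
    set u' := (nW hc L)⁻¹ * ag * nW hc L with hu'def
    set s' := (c : F)⁻¹ * s
    obtain ⟨t, ht⟩ : ∃ t : F, n * xG hc hnp s' * n⁻¹ = xG hc hp t := by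
      refine ⟨(eta D T i (D.neg (D.simple i.val)) : F) * s', Subtype.ext ?_⟩
      show elN D F (D.simple i.val) 1 * elX D F (D.neg (D.simple i.val)) s' *
        (elN D F (D.simple i.val) 1)⁻¹ = _
      rw [nOne_conj_elX hc i hnp, sig_neg hc i hp, sig_simple hc, neg_neg_root hc hp]; rfl
    rw [hu', show n * (u' * xG hc hnp s') = (n * u' * n⁻¹) * ((n * xG hc hnp s' * n⁻¹) * n) by group, ht,
      ← rep_mul]
    exact hUm _ hm1 _ (hall t)
  let S : Subgroup ↥(D.group F) :=
    { carrier := {g | (∀ v ∈ M, ρ g v ∈ M) ∧ ∀ v ∈ M, ρ g⁻¹ v ∈ M}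
      one_mem' := ⟨fun v hv => by simpa using hv, fun v hv => by simpa using hv⟩
      mul_mem' := fun {a b} ha hb => ⟨fun v hv => by rw [← rep_mul]; exact ha.1 _ (hb.1 v hv),
        fun v hv => by rw [mul_inv_rev, ← rep_mul]; exact hb.2 _ (ha.2 v hv)⟩
      inv_mem' := fun {a} ha => ⟨ha.2, fun v hv => by rw [inv_inv]; exact ha.1 v hv⟩ }
  have hSH : ∀ h ∈ Hg D F, h ∈ S := fun h hh => ⟨hH h hh, hH _ (inv_mem hh)⟩
  have hSn : ∀ i, nG hc i 1 ∈ S := fun i => ⟨hn i, fun v hv => by
    obtain ⟨a, ha, e⟩ := nOne_inv hc (F := F) i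
    have e' : (nG hc i (1 : F))⁻¹ = (⟨a, diagonal_le_group hc ha⟩ : ↥(D.group F)) * nG hc i 1 :=
      Subtype.ext e
    rw [e', ← rep_mul]
    exact hH _ (Subgroup.mem_subgroupOf.2 ha) _ (hn i v hv)⟩
  have hSw : ∀ L, nW hc L ∈ S := fun L => by
    induction L with
    | nil => exact (show nW hc ([] : List (Fin D.rank)) = (1 : ↥(D.group F)) from rfl) ▸ S.one_mem
    | cons i L ih => rw [nW_cons]; exact S.mul_mem (hSn i) ih
  have hSU : ∀ a ∈ Ug D F, a ∈ S := fun a ha => by
    obtain ⟨L, hL⟩ := exists_longest hc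
    have h1 := nW_conj_gen hc L (Q := fun r => r < D.nroots / 2) hL ha
    have h2 : nW hc L * a * (nW hc L)⁻¹ ∈ S := ⟨hUm _ h1, hUm _ (inv_mem h1)⟩
    have h3 := S.mul_mem (S.mul_mem (S.inv_mem (hSw L)) h2) (hSw L)
    convert h3 using 1
    group
  intro g v hv
  obtain ⟨L, u, h, b, hu, hh, hb, e⟩ := ChevField.exists_bruhat hc hcomm g.2
  have hbU : b ∈ uGen D F (fun r => D.nroots / 2 ≤ r) := uGen_mono (fun _ _ h => h.1) hb
  have e' : g = (⟨u, pos_le_group hc hu⟩ : ↥(D.group F)) * ⟨h, diagonal_le_group hc hh⟩ * nW hc L *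
      ⟨b, pos_le_group hc hbU⟩ := Subtype.ext e
  have hgS : g ∈ S := e' ▸ S.mul_mem (S.mul_mem (S.mul_mem (hSU _ (Subgroup.mem_subgroupOf.2 hu))
    (hSH _ (Subgroup.mem_subgroupOf.2 hh))) (hSw L)) (hSU _ (Subgroup.mem_subgroupOf.2 hbU))
  exact hgS.1 v hv

omit p [Fact p.Prime] [CharP F p] [CharP k p] in
theorem span_um_top {w : Wt D F k} {y : V} (hy : IsWtVec hc ρ w y) (hρ : IsIrred ρ) :
    Submodule.span k (Set.range fun u : Ug' D F => ρ (u : ↥(D.group F)) y) = ⊤ :=
  (hρ.2 _ (span_um_invar hc hcomm hy)).resolve_left fun h => hy.1 (by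
    have : y ∈ Submodule.span k (Set.range fun u : Ug' D F => ρ (u : ↥(D.group F)) y) :=
      Submodule.subset_span ⟨1, by simp⟩
    rwa [h, Submodule.mem_bot] at this)

omit [Fintype F] hc hcomm p [Fact p.Prime] [CharP F p] [CharP k p] in
theorem IsIrred.dual' [FiniteDimensional k V] (hρ : IsIrred ρ) : IsIrred ρ.dual := by
  obtain ⟨v, hv⟩ := hρ.1
  refine ⟨?_, fun W hW => ?_⟩
  · by_contra h
    push Not at h
    exact hv ((Module.forall_dual_apply_eq_zero_iff k v).1 fun f => by rw [h f]; rfl)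
  · have hinv : Invar ρ W.dualCoannihilator := fun g x hx => by
      rw [Submodule.mem_dualCoannihilator] at hx ⊢
      intro f hf
      have := hx _ (hW g⁻¹ f hf)
      rwa [Representation.dual_apply, inv_inv] at this
    rcases hρ.2 _ hinv with h | h
    · right
      rw [← Subspace.dualCoannihilator_dualAnnihilator_eq (W := W), h, Submodule.dualAnnihilator_bot]
    · left
      rw [← Subspace.dualCoannihilator_dualAnnihilator_eq (W := W), h, Submodule.dualAnnihilator_top]

variable [IsAlgClosed k]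

/-- two fixed vectors of a simple module are proportional -/
theorem fixed_proportional [FiniteDimensional k V] (hρ : IsIrred ρ) {a b : V} (ha : Fixed ρ a)
    (hb : Fixed ρ b) (ha0 : a ≠ 0) : ∃ c : k, b = c • a := by
  have hd := hρ.dual'
  obtain ⟨w, f, hf⟩ := exists_wtVec (ρ := ρ.dual) hc hcomm p hd.1
  have htop := span_um_top hc hcomm hf hd
  obtain ⟨L, hL⟩ := exists_longest hc
  set g0 := (nW (F := F) hc L)⁻¹ with hg0
  set g := ρ.dual g0 f with hg
  have hrev : ∀ r, r < D.nroots → r < D.nroots / 2 → D.nroots / 2 ≤ sigs D T L.reverse r := by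
    intro r hr hrn
    by_contra hlt
    have h1 := hL _ (neg_lt hc (sigs_lt hc L.reverse hr)) (by
      have e : D.neg (sigs D T L.reverse r) = _ := neg_eq hc (sigs_lt hc L.reverse hr)
      have := nroots_eq_two_mul hc
      omega)
    have h2 := sigs_reverse hc L.reverse hr
    rw [List.reverse_reverse] at h2
    rw [sigs_neg hc L (sigs_lt hc L.reverse hr), h2, sig_neg_iff hc hr] at h1
    omega
  have hval : ∀ φ : Module.Dual k V, ∃ c : k, φ a = c * g a ∧ φ b = c * g b := by
    intro φ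
    have hφ : ρ.dual (nW hc L) φ ∈ (⊤ : Submodule k (Module.Dual k V)) := trivial
    rw [← htop] at hφ
    obtain ⟨c, hc'⟩ := Submodule.mem_span_range_iff_exists_fun k |>.1 hφ
    have hev : ∀ x, Fixed ρ x → ∀ u : Ug' D F, ρ.dual g0 (ρ.dual (u : ↥(D.group F)) f) x = g x := by
      intro x hx u
      have hu := nW_conj_gen' hc L (Q := fun r => D.nroots / 2 ≤ r) hrev u.2
      rw [hg, rep_mul, show g0 * (u : ↥(D.group F)) = (g0 * u * g0⁻¹) * g0 by group, ← rep_mul,
        Representation.dual_apply]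
      show ρ.dual g0 f (ρ _ x) = ρ.dual g0 f x
      rw [hx _ (inv_mem (by simpa [hg0] using hu))]
    have hsum : φ = ∑ u, c u • ρ.dual g0 (ρ.dual (u : ↥(D.group F)) f) := by
      have h := congrArg (ρ.dual g0) hc'
      rw [rep_mul, hg0, inv_mul_cancel, map_one, map_sum] at h
      simp only [map_smul] at h
      exact h.symm
    refine ⟨∑ u, c u, ?_, ?_⟩ <;>
      · rw [hsum, LinearMap.sum_apply, Finset.sum_mul]
        refine Finset.sum_congr rfl fun u _ => ?_
        simp only [LinearMap.smul_apply, smul_eq_mul]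
        congr 1
        first | exact hev a ha u | exact hev b hb u
  have hga : g a ≠ 0 := fun h => ha0 ((Module.forall_dual_apply_eq_zero_iff k a).1 fun φ => by
    obtain ⟨c, h1, -⟩ := hval φ; rw [h1, h, mul_zero])
  refine ⟨g b / g a, sub_eq_zero.1 ((Module.forall_dual_apply_eq_zero_iff k _).1 fun φ => ?_)⟩
  obtain ⟨c, h1, h2⟩ := hval φ
  rw [map_sub, map_smul, smul_eq_mul, h1, h2]
  field_simp
  ring

/-- a simple module has one weight -/
theorem wt_unique [FiniteDimensional k V] (hρ : IsIrred ρ) {w w' : Wt D F k} {y y' : V}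
    (hy : IsWtVec hc ρ w y) (hy' : IsWtVec hc ρ w' y') : w = w' := by
  obtain ⟨c, rfl⟩ := fixed_proportional hc hcomm p hρ hy.2.1 hy'.2.1 hy.1
  have hc0 : c ≠ 0 := fun h => hy'.1 (by rw [h, zero_smul])
  funext i
  have h1 : ∀ t, chiW w i t = chiW w' i t := fun t => by
    have := hy'.2.2.1 i t
    rw [map_smul, hy.2.2.1, smul_smul, smul_smul] at this
    have := smul_left_injective k hy.1 this
    exact mul_left_cancel₀ hc0 (by rw [this]; ring)
  have h2 : muW w i = muW w' i := by
    have := hy'.2.2.2 i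
    rw [map_smul, hy.2.2.2, smul_smul, smul_smul] at this
    have := smul_left_injective k hy.1 this
    exact mul_left_cancel₀ hc0 (by rw [this]; ring)
  cases hw : w i <;> cases hw' : w' i
  · rfl
  · simp [muW, hw, hw'] at h2
  · simp [muW, hw, hw'] at h2
  · congr 1
    refine MonoidHom.ext fun t => Units.ext ?_
    have := h1 t
    simpa [chiW, hw, hw'] using this

omit [IsAlgClosed k] in
theorem exists_um_functional [FiniteDimensional k V] (hρ : IsIrred ρ) :
    ∃ f : Module.Dual k V, f ≠ 0 ∧ ∀ u ∈ Ug' D F, ∀ x, f (ρ u x) = f x := by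
  obtain ⟨f, hf0, hf⟩ := exists_fixed_ne_zero (ρ := ρ.dual) hc hcomm p hρ.dual'.1
  obtain ⟨L, hL⟩ := exists_longest hc
  refine ⟨ρ.dual (nW hc L) f, fun h => hf0 ?_, fun u hu x => ?_⟩
  · have := congrArg (ρ.dual (nW hc L)⁻¹) h
    rw [rep_mul, inv_mul_cancel, map_one, map_zero] at this
    exact this
  · have hrev : ∀ r, r < D.nroots → r < D.nroots / 2 → D.nroots / 2 ≤ sigs D T L.reverse r := by
      intro r hr hrn
      by_contra hlt
      have h1 := hL _ (neg_lt hc (sigs_lt hc L.reverse hr)) (by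
        have e : D.neg (sigs D T L.reverse r) = _ := neg_eq hc (sigs_lt hc L.reverse hr)
        have := nroots_eq_two_mul hc
        omega)
      have h2 := sigs_reverse hc L.reverse hr
      rw [List.reverse_reverse] at h2
      rw [sigs_neg hc L (sigs_lt hc L.reverse hr), h2, sig_neg_iff hc hr] at h1
      omega
    have hu' := nW_conj_gen' hc L (Q := fun r => D.nroots / 2 ≤ r) hrev hu
    have h1 := hf _ (inv_mem hu')
    have h2 := congrArg (fun φ : Module.Dual k V => φ (ρ (nW hc L)⁻¹ x)) h1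
    have h3 : f (ρ ((nW hc L)⁻¹ * u * nW hc L)⁻¹⁻¹ (ρ (nW hc L)⁻¹ x)) = f (ρ (nW hc L)⁻¹ x) := h2
    show f (ρ (nW hc L)⁻¹ (ρ u x)) = f (ρ (nW hc L)⁻¹ x)
    rw [← h3, rep_mul, rep_mul]
    congr 2
    group

/-- a simple module is determined by its weight -/
theorem iso_of_wt [FiniteDimensional k V] [FiniteDimensional k V'] (hρ : IsIrred ρ) (hσ : IsIrred σ)
    {w : Wt D F k} {y : V} {y' : V'} (hy : IsWtVec hc ρ w y) (hy' : IsWtVec hc σ w y') :
    IsoRep ρ σ := by
  let τ : Representation k ↥(D.group F) (V × V') :=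
    { toFun := fun g => (ρ g).prodMap (σ g)
      map_one' := by ext x <;> simp
      map_mul' := fun a b => by ext x <;> simp }
  have hz : IsWtVec hc τ w (y, y') := by
    refine ⟨fun h => hy.1 (congrArg Prod.fst h), fun u hu => Prod.ext (hy.2.1 u hu) (hy'.2.1 u hu),
      fun i t => Prod.ext (hy.2.2.1 i t) (hy'.2.2.1 i t), fun i => ?_⟩
    have : rOp hc τ i (y, y') = (rOp hc ρ i y, rOp hc σ i y') := by
      simp only [rOp, LinearMap.sum_apply, Prod.ext_iff, Prod.fst_sum, Prod.snd_sum]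
      exact ⟨rfl, rfl⟩
    rw [this, hy.2.2.2, hy'.2.2.2]
    rfl
  set M := Submodule.span k (Set.range fun u : Ug' D F => τ (u : ↥(D.group F)) (y, y')) with hM
  have hMinv : Invar τ M := span_um_invar hc hcomm hz
  have hzM : (y, y') ∈ M := Submodule.subset_span ⟨1, by simp⟩
  have hnot : ¬ (y, (0 : V')) ∈ M := by
    intro h
    obtain ⟨c, hsum⟩ := (Submodule.mem_span_range_iff_exists_fun k).1 h
    obtain ⟨f, hf0, hf⟩ := exists_um_functional hc hcomm p hρ
    obtain ⟨f', hf0', hf'⟩ := exists_um_functional hc hcomm p hσ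
    have hy1 : f y ≠ 0 := fun h0 => hf0 (by
      refine LinearMap.ext_on_range (span_um_top hc hcomm hy hρ) fun u => ?_
      rw [hf _ u.2, h0, LinearMap.zero_apply])
    have hy1' : f' y' ≠ 0 := fun h0 => hf0' (by
      refine LinearMap.ext_on_range (span_um_top hc hcomm hy' hσ) fun u => ?_
      rw [hf' _ u.2, h0, LinearMap.zero_apply])
    have e1 := congrArg (fun x : V × V' => f x.1) hsum
    have e2 := congrArg (fun x : V × V' => f' x.2) hsum
    simp only [Prod.fst_sum, Prod.snd_sum, Prod.smul_fst, Prod.smul_snd, map_sum, map_smul, smul_eq_mul,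
      map_zero] at e1 e2
    have e1' : ∑ u, c u * f (ρ (u : ↥(D.group F)) y) = f y := e1
    have e2' : ∑ u, c u * f' (σ (u : ↥(D.group F)) y') = 0 := e2
    clear e1 e2
    rename' e1' => e1, e2' => e2
    rw [Finset.sum_congr rfl fun u _ => congrArg (c u * ·) (hf _ u.2 y), ← Finset.sum_mul] at e1
    rw [Finset.sum_congr rfl fun u _ => congrArg (c u * ·) (hf' _ u.2 y'), ← Finset.sum_mul] at e2
    rw [(mul_eq_zero.1 e2).resolve_right hy1', zero_mul] at e1
    exact hy1 e1.symm
  have hnot' : ¬ ((0 : V), y') ∈ M := fun h => hnot (by simpa using M.sub_mem hzM h)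
  let π₁ : M →ₗ[k] V := (LinearMap.fst k V V').comp M.subtype
  let π₂ : M →ₗ[k] V' := (LinearMap.snd k V V').comp M.subtype
  have hsur₁ : Function.Surjective π₁ := LinearMap.range_eq_top.1 ((hρ.2 _ fun g v hv => by
    obtain ⟨m, rfl⟩ := hv
    exact ⟨⟨τ g m, hMinv g m m.2⟩, rfl⟩).resolve_left fun h => hy.1
      ((Submodule.mem_bot k).1 (h ▸ (⟨⟨_, hzM⟩, rfl⟩ : y ∈ LinearMap.range π₁))))
  have hsur₂ : Function.Surjective π₂ := LinearMap.range_eq_top.1 ((hσ.2 _ fun g v hv => by
    obtain ⟨m, rfl⟩ := hv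
    exact ⟨⟨τ g m, hMinv g m m.2⟩, rfl⟩).resolve_left fun h => hy'.1
      ((Submodule.mem_bot k).1 (h ▸ (⟨⟨_, hzM⟩, rfl⟩ : y' ∈ LinearMap.range π₂))))
  have hinj₁ : Function.Injective π₁ := by
    rw [← LinearMap.ker_eq_bot, Submodule.eq_bot_iff]
    rintro ⟨⟨a, b⟩, hm⟩ ha
    obtain rfl : a = 0 := ha
    have hK : Invar σ (M.comap (LinearMap.inr k V V')) := fun g x hx => by
      show ((0 : V), σ g x) ∈ M
      have := hMinv g _ hx
      simpa [τ] using this
    rcases hσ.2 _ hK with h | h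
    · have : b ∈ M.comap (LinearMap.inr k V V') := hm
      rw [h, Submodule.mem_bot] at this
      subst this
      rfl
    · exact absurd (show y' ∈ M.comap (LinearMap.inr k V V') from h ▸ Submodule.mem_top) hnot'
  have hinj₂ : Function.Injective π₂ := by
    rw [← LinearMap.ker_eq_bot, Submodule.eq_bot_iff]
    rintro ⟨⟨a, b⟩, hm⟩ hb
    obtain rfl : b = 0 := hb
    have hK : Invar ρ (M.comap (LinearMap.inl k V V')) := fun g x hx => by
      show (ρ g x, (0 : V')) ∈ M
      have := hMinv g _ hx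
      simpa [τ] using this
    rcases hρ.2 _ hK with h | h
    · have : a ∈ M.comap (LinearMap.inl k V V') := hm
      rw [h, Submodule.mem_bot] at this
      subst this
      rfl
    · exact absurd (show y ∈ M.comap (LinearMap.inl k V V') from h ▸ Submodule.mem_top) hnot
  let e1 := LinearEquiv.ofBijective π₁ ⟨hinj₁, hsur₁⟩
  let e2 := LinearEquiv.ofBijective π₂ ⟨hinj₂, hsur₂⟩
  refine ⟨e1.symm.trans e2, fun g v => ?_⟩
  obtain ⟨m, rfl⟩ := e1.surjective v
  have : ρ g (e1 m) = e1 ⟨τ g m, hMinv g m m.2⟩ := rfl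
  rw [this, LinearEquiv.trans_apply, LinearEquiv.trans_apply, e1.symm_apply_apply, e1.symm_apply_apply]
  rfl

end CfsgLib.ModularCount
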