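import Cfsg.Agent.Lib.ModularCount.Uniq
import Cfsg.Agent.Lib.Chev.WeylSum
import Mathlib.GroupTheory.FiniteAbelian.Duality
import Mathlib.RingTheory.RootsOfUnity.AlgebraicallyClosed
import Mathlib.FieldTheory.IsAlgClosed.AlgebraicClosure

/-!
Every weight occurs: the number of classes of semisimple elements of a tabulated Chevalley group with
injective torus parametrisation is `q ^ l`.
-/

set_option autoImplicit false

open Module
open scoped Classical

namespace CfsgLib.ModularCount

open Cfsg.Lie CfsgLib.Chev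
open scoped Matrix

universe u v w

variable {D : ChevalleyDatum} {T : Tabs} {F : Type v} [Field F] [Fintype F]
  {k : Type u} [Field k]

variable (hc : Checked D T)

/-- the torus element with the given coordinates -/
noncomputable def hT : (Fin D.rank → Fˣ) →* ↥(D.group F) :=
  ((torus D T F).comp (hPar D F)).codRestrict (D.group F) fun c =>
    diagonal_le_group hc ((mem_diagonal hc).2 ⟨c, rfl⟩)

/-- translation on functions on the group -/
def lam (D : ChevalleyDatum) (F : Type*) [Field F] (k : Type*) [Field k] :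
    Representation k ↥(D.group F) (↥(D.group F) → k) where
  toFun g :=
    { toFun := fun f x => f (g⁻¹ * x)
      map_add' := fun _ _ => rfl
      map_smul' := fun _ _ => rfl }
  map_one' := by ext f x; simp
  map_mul' a b := by ext f x; simp [mul_assoc]

/-- the character of a weight on torus coordinates -/
noncomputable def chiH (w : Wt D F k) (c : Fin D.rank → Fˣ) : kˣ := ∏ i, (w i).getD 1 (c i)

/-- the character of a weight as a function on the group -/
noncomputable def chiOf (w : Wt D F k) (h : ↥(D.group F)) : k :=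
  if hh : ∃ c, hT hc c = h then (chiH w hh.choose : kˣ) else 0

include hc

omit [Fintype F] in
theorem mem_hg_iff {h : ↥(D.group F)} : h ∈ Hg D F ↔ ∃ c, hT hc c = h := by
  rw [Subgroup.mem_subgroupOf, mem_diagonal hc]
  exact ⟨fun ⟨c, h⟩ => ⟨c, Subtype.ext h⟩, fun ⟨c, h⟩ => ⟨c, congrArg Subtype.val h⟩⟩

omit [Fintype F] in
theorem hG_eq_hT (i : Fin D.rank) (t : Fˣ) : hG hc i t = hT hc (Pi.mulSingle i t) := by
  apply Subtype.ext
  show torus D T F (corChar D T (D.simple i.val) t) = torus D T F (hPar D F (Pi.mulSingle i t))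
  rw [hPar_eq_corChar hc (T := T), Fintype.prod_eq_single i]
  · rw [Pi.mulSingle_eq_same]
  · intro j hj
    rw [Pi.mulSingle_eq_of_ne hj, corChar_one]

variable (hinj : Function.Injective (hPar D F))
include hinj

omit [Fintype F] in
theorem hT_injective : Function.Injective (hT (F := F) hc) := fun a b h =>
  hinj (torus_injective hc (congrArg Subtype.val h))

theorem chiOf_hT (w : Wt D F k) (c : Fin D.rank → Fˣ) : chiOf hc w (hT hc c) = chiH w c := by
  have hh : ∃ c', hT hc c' = hT hc c := ⟨c, rfl⟩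
  rw [chiOf, dif_pos hh, hT_injective hc hinj hh.choose_spec]

theorem chiOf_mul (w : Wt D F k) {a b : ↥(D.group F)} (ha : a ∈ Hg D F) (hb : b ∈ Hg D F) :
    chiOf hc w (a * b) = chiOf hc w a * chiOf hc w b := by
  obtain ⟨c, rfl⟩ := (mem_hg_iff hc).1 ha
  obtain ⟨d, rfl⟩ := (mem_hg_iff hc).1 hb
  rw [← map_mul, chiOf_hT hc hinj, chiOf_hT hc hinj, chiOf_hT hc hinj]
  simp [chiH, Finset.prod_mul_distrib]

theorem chiOf_ne_zero (w : Wt D F k) {a : ↥(D.group F)} (ha : a ∈ Hg D F) : chiOf hc w a ≠ 0 := by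
  obtain ⟨c, rfl⟩ := (mem_hg_iff hc).1 ha
  rw [chiOf_hT hc hinj]
  exact Units.ne_zero _

theorem chiOf_one (w : Wt D F k) : chiOf hc w 1 = 1 := by
  rw [← map_one (hT (F := F) hc), chiOf_hT hc hinj]
  simp [chiH]

theorem chiOf_hG (w : Wt D F k) (i : Fin D.rank) (t : Fˣ) : chiOf hc w (hG hc i t) = chiW w i t := by
  rw [hG_eq_hT hc, chiOf_hT hc hinj, chiW, chiH, Fintype.prod_eq_single i]
  · rw [Pi.mulSingle_eq_same]
  · intro j hj
    rw [Pi.mulSingle_eq_of_ne hj, map_one]

/-- the character is fixed by the reflections on whose coroot subgroup it is trivial -/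
theorem chiOf_conj_nG (w : Wt D F k) (i : Fin D.rank) (hi : (w i).getD 1 = 1) {h : ↥(D.group F)}
    (hh : h ∈ Hg D F) : chiOf hc w (nG hc i 1 * h * (nG hc i 1)⁻¹) = chiOf hc w h := by
  obtain ⟨c, rfl⟩ := (mem_hg_iff hc).1 hh
  have e : nG hc i (1 : F) * hT hc c * (nG hc i 1)⁻¹ = hT hc c * hG hc i (hPar D F c i)⁻¹ := by
    apply Subtype.ext
    show elN D F (D.simple i.val) 1 * torus D T F (hPar D F c) * (elN D F (D.simple i.val) 1)⁻¹ =
      torus D T F (hPar D F c) * torus D T F (corChar D T (D.simple i.val) (hPar D F c i)⁻¹)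
    rw [nOne_conj_torus hc, ← map_mul]
    congr 1
    funext j
    have hre : refl D i (Pi.single j 1) = Pi.single j 1 - Pi.single i (cm D i j) := by
      unfold CfsgLib.Chev.refl
      rw [Finset.sum_eq_single j] <;> simp +contextual
    show chi (hPar D F c) (refl D i (Pi.single j 1)) =
      hPar D F c j * corChar D T (D.simple i.val) (hPar D F c i)⁻¹ j
    rw [hre, chi_sub, chi_single, chi_single, zpow_one, div_eq_mul_inv, ← inv_zpow]
    congr 1
    show _ = _ ^ _
    congr 1
    rw [Finset.sum_eq_single i]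
    · rw [cv_simple hc i.2 i.2, if_pos rfl, one_mul]
    · intro l _ hl
      rw [cv_simple hc i.2 l.2, if_neg (fun h => hl (Fin.ext h.symm)), zero_mul]
    · simp
  rw [e, chiOf_mul hc hinj w ((mem_hg_iff hc).2 ⟨c, rfl⟩) (hG_mem hc _ _), chiOf_hG hc hinj, chiW, hi]
  simp

theorem chiOf_conj_nW (w : Wt D F k) :
    ∀ M : List (Fin D.rank), (∀ i ∈ M, (w i).getD 1 = 1) → ∀ h ∈ Hg D F,
      chiOf hc w (nW hc M * h * (nW hc M)⁻¹) = chiOf hc w h := by
  intro M
  induction M with
  | nil => intro _ h _; rw [show nW hc ([] : List (Fin D.rank)) = (1 : ↥(D.group F)) from rfl]; simp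
  | cons i M ih =>
      intro hM h hh
      rw [nW_cons, show nG hc i 1 * nW hc M * h * (nG hc i 1 * nW hc M)⁻¹ =
        nG hc i 1 * (nW hc M * h * (nW hc M)⁻¹) * (nG hc i 1)⁻¹ by group,
        chiOf_conj_nG hc hinj w i (hM i List.mem_cons_self) (nW_conj_mem hc M hh),
        ih (fun j hj => hM j (List.mem_cons_of_mem _ hj)) h hh]

/-- a word in such reflections with trivial permutation lies in the kernel -/
theorem chiOf_nW_of_fix (w : Wt D F k) :
    ∀ (m : ℕ) (M : List (Fin D.rank)), M.length = m → (∀ i ∈ M, (w i).getD 1 = 1) →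
      (∀ r, r < D.nroots → sigs D T M r = r) →
        nW hc M ∈ Hg D F ∧ chiOf hc w (nW hc M) = 1 := by
  intro m
  induction m using Nat.strong_induction_on with
  | _ m ih =>
    intro M hm hM hfix
    rcases List.eq_nil_or_concat M with rfl | ⟨A, i, rfl⟩
    · rw [show nW hc ([] : List (Fin D.rank)) = (1 : ↥(D.group F)) from rfl]
      exact ⟨one_mem _, chiOf_one hc hinj w⟩
    rw [List.concat_eq_append] at hm hM hfix ⊢
    have hexch : ∀ A : List (Fin D.rank), (∀ j ∈ A, (w j).getD 1 = 1) →
        sigs D T A (D.simple i.val) < D.nroots / 2 →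
        ∃ L' : List (Fin D.rank), L'.length + 1 = A.length ∧ (∀ j ∈ L', (w j).getD 1 = 1) ∧
          nW hc (A ++ [i]) * (nW hc L')⁻¹ ∈ Hg D F ∧
          chiOf hc w (nW hc (A ++ [i]) * (nW hc L')⁻¹) = 1 := by
      intro A
      induction A with
      | nil =>
          intro _ h
          have : D.simple i.val < D.nroots / 2 := h
          have := half_le_simple hc i.2
          omega
      | cons j L ihL =>
          intro hA hneg
          have hpi := simple_lt hc i.2
          have hwj := hA j List.mem_cons_self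
          by_cases h : sigs D T L (D.simple i.val) < D.nroots / 2
          · obtain ⟨L', h1, h2, h3, h4⟩ := ihL (fun x hx => hA x (List.mem_cons_of_mem _ hx)) h
            have e : nW (F := F) hc (j :: L ++ [i]) * (nW hc (j :: L'))⁻¹ =
                nG hc j 1 * (nW hc (L ++ [i]) * (nW hc L')⁻¹) * (nG hc j 1)⁻¹ := by
              rw [List.cons_append, nW_cons, nW_cons]; group
            refine ⟨j :: L', by simp [h1], ?_, ?_, ?_⟩
            · intro x hx
              rcases List.mem_cons.1 hx with rfl | hx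
              · exact hwj
              · exact h2 x hx
            · rw [e]
              exact Subgroup.mem_subgroupOf.2 (nOne_conj_diagonal hc j (Subgroup.mem_subgroupOf.1 h3))
            · rw [e, chiOf_conj_nG hc hinj w j hwj h3, h4]
          · have hu := sigs_lt hc L hpi
            have hj : sigs D T L (D.simple i.val) = D.simple j.val := by
              by_contra hne
              rw [sigs_cons] at hneg
              have := (sig_pos hc j hu (by omega) hne).1
              omega
            obtain ⟨c, hc1, hcx⟩ := nProd_conj_elX_pair hc (F := F) L hpi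
            rw [hj] at hcx
            have hmid : nProd D F L * elN D F (D.simple i.val) 1 * (nProd D F L)⁻¹ =
                elN D F (D.simple j.val) (c : F) := by
              rw [elN, show ∀ m a b e : GL D.Idx F, m * (a * b * e) * m⁻¹ =
                (m * a * m⁻¹) * (m * b * m⁻¹) * (m * e * m⁻¹) from fun m a b e => by group,
                (hcx 1).1, (hcx _).2, elN]
              congr 2 <;> rcases hc1 with e | e <;> simp [e]
            have e : nW (F := F) hc (j :: L ++ [i]) * (nW hc L)⁻¹ = hG hc j (1 / -c) := by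
              apply Subtype.ext
              show nProd D F (j :: L ++ [i]) * (nProd D F L)⁻¹ =
                torus D T F (corChar D T (D.simple j.val) (1 / -c))
              rw [← elN_mul_inv hc (simple_lt hc j.2), elN_inv hc (simple_lt hc j.2), Units.val_neg,
                neg_neg, Units.val_one, ← hmid, List.cons_append, nProd_cons, nProd_append, nProd_cons,
                nProd_nil, mul_one]
              group
            refine ⟨L, by simp, fun x hx => hA x (List.mem_cons_of_mem _ hx), ?_, ?_⟩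
            · rw [e]; exact hG_mem hc j _
            · rw [e, chiOf_hG hc hinj, chiW, hwj]; simp
    have hpi := simple_lt hc i.2
    have hneg : sigs D T A (D.simple i.val) < D.nroots / 2 := by
      have h1 := hfix _ hpi
      rw [sigs_append] at h1
      have h2 : sigs D T A (sig D T i (D.simple i.val)) = D.simple i.val := h1
      rw [sig_simple hc, sigs_neg hc A hpi] at h2
      have h3 := half_le_simple hc i.2
      have h4 := sigs_lt hc A (T := T) hpi
      have e : D.neg (sigs D T A (D.simple i.val)) = _ := neg_eq hc h4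
      have := nroots_eq_two_mul hc
      omega
    obtain ⟨L', h1, h2, h3, h4⟩ := hexch A (fun j hj => hM j (List.mem_append_left _ hj)) hneg
    have hperm : ∀ r, r < D.nroots → sigs D T L' r = r := fun r hr => by
      rw [← sigs_eq_of_mem hc (F := F) (Subgroup.mem_subgroupOf.1 h3) hr, hfix r hr]
    obtain ⟨h5, h6⟩ := ih L'.length (by simp at hm; omega) L' rfl h2 hperm
    have e : nW (F := F) hc (A ++ [i]) = nW hc (A ++ [i]) * (nW hc L')⁻¹ * nW hc L' := by group
    rw [e]
    exact ⟨mul_mem h3 h5, by rw [chiOf_mul hc hinj w h3 h5, h4, h6, one_mul]⟩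

theorem chiOf_nW_div (w : Wt D F k) {M M' : List (Fin D.rank)} (hM : ∀ i ∈ M, (w i).getD 1 = 1)
    (hM' : ∀ i ∈ M', (w i).getD 1 = 1) (h : ∀ r, r < D.nroots → sigs D T M r = sigs D T M' r) :
    chiOf hc w ((nW hc M')⁻¹ * nW hc M) = 1 := by
  have hrev : ∀ N : List (Fin D.rank), (∀ i ∈ N, (w i).getD 1 = 1) →
      (∀ r, r < D.nroots → sigs D T N r = sigs D T M' r) →
      nW hc (M'.reverse ++ N) ∈ Hg D F ∧ chiOf hc w (nW hc (M'.reverse ++ N)) = 1 := by
    intro N hN he
    refine chiOf_nW_of_fix hc hinj w _ _ rfl (fun i hi => ?_) fun r hr => ?_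
    · rcases List.mem_append.1 hi with hi | hi
      · exact hM' i (List.mem_reverse.1 hi)
      · exact hN i hi
    · rw [sigs_append, he r hr, sigs_reverse hc M' hr]
  obtain ⟨h1, h2⟩ := hrev M hM h
  obtain ⟨h3, h4⟩ := hrev M' hM' fun _ _ => rfl
  have hi : chiOf hc w (nW hc (M'.reverse ++ M'))⁻¹ = 1 := by
    have := chiOf_mul hc hinj w (inv_mem h3) h3
    rw [inv_mul_cancel, chiOf_one hc hinj, h4, mul_one] at this
    exact this.symm
  rw [show (nW (F := F) hc M')⁻¹ * nW hc M =
    (nW hc (M'.reverse ++ M'))⁻¹ * nW hc (M'.reverse ++ M) by rw [nW_append, nW_append]; group,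
    chiOf_mul hc hinj w (inv_mem h3) h1, hi, h2, one_mul]

variable (hcomm : CommOne D T) (p : ℕ) [Fact p.Prime] [CharP F p] [CharP k p]
include hcomm p

/-- a weight vector in the functions on the group -/
theorem exists_wtVec_lam (w : Wt D F k) : ∃ y, IsWtVec hc (lam D F k) w y := by
  obtain ⟨L0, hL0⟩ := exists_longest hc
  have hflip : ∀ r, r < D.nroots →
      (sigs D T L0.reverse r < D.nroots / 2 ↔ D.nroots / 2 ≤ r) := by
    intro r hr
    have h2 := sigs_reverse hc L0.reverse hr
    rw [List.reverse_reverse] at h2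
    have hs := sigs_lt hc L0.reverse (T := T) hr
    constructor
    · intro hn
      have h1 := hL0 _ (neg_lt hc hs) (by
        have e : D.neg (sigs D T L0.reverse r) = _ := neg_eq hc hs
        have := nroots_eq_two_mul hc
        omega)
      rw [sigs_neg hc L0 hs, h2, sig_neg_iff hc hr] at h1
      exact h1
    · intro hp
      by_contra hge
      have := hL0 _ hs (not_lt.1 hge)
      omega
  set n0 := nW (F := F) hc L0 with hn0
  set χ0 : ↥(D.group F) → k := fun h => chiOf hc w (n0 * h * n0⁻¹) with hχ0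
  set v0 : ↥(D.group F) → k := fun x =>
    if hx : ∃ c, ∃ u ∈ Ug D F, x = u * hT hc c then (χ0 (hT hc hx.choose))⁻¹ else 0 with hv0
  have hχ0mul : ∀ a ∈ Hg D F, ∀ b ∈ Hg D F, χ0 (a * b) = χ0 a * χ0 b := fun a ha b hb => by
    simp only [hχ0, hn0]
    rw [← chiOf_mul hc hinj w (nW_conj_mem hc L0 ha) (nW_conj_mem hc L0 hb)]
    congr 1
    group
  have hχ0ne : ∀ a ∈ Hg D F, χ0 a ≠ 0 := fun a ha => chiOf_ne_zero hc hinj w (nW_conj_mem hc L0 ha)
  have huniq : ∀ {u u' : ↥(D.group F)}, u ∈ Ug D F → u' ∈ Ug D F → ∀ {a b : ↥(D.group F)},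
      a ∈ Hg D F → b ∈ Hg D F → u * a = u' * b → a = b := by
    intro u u' hu hu' a b ha hb e
    have h1 : u'⁻¹ * u = b * a⁻¹ := by
      calc u'⁻¹ * u = u'⁻¹ * (u * a) * a⁻¹ := by group
        _ = _ := by rw [e]; group
    have h3 : (u'⁻¹ * u : ↥(D.group F)) ∈ Hg D F := h1 ▸ mul_mem hb (inv_mem ha)
    have h2 := pos_inf_diag hc (Subgroup.mem_subgroupOf.1 (mul_mem (inv_mem hu') hu))
      (Subgroup.mem_subgroupOf.1 h3)
    have h4 : b * a⁻¹ = 1 := by rw [← h1]; exact Subtype.ext h2
    exact (mul_inv_eq_one.1 h4).symm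
  have hv0val : ∀ u ∈ Ug D F, ∀ h ∈ Hg D F, v0 (u * h) = (χ0 h)⁻¹ := by
    intro u hu h hh
    obtain ⟨c, rfl⟩ := (mem_hg_iff hc).1 hh
    have hx : ∃ c', ∃ u' ∈ Ug D F, u * hT hc c = u' * hT hc c' := ⟨c, u, hu, rfl⟩
    obtain ⟨u', hu', e⟩ := hx.choose_spec
    simp only [hv0, dif_pos hx]
    rw [← huniq hu hu' ((mem_hg_iff hc).2 ⟨c, rfl⟩) ((mem_hg_iff hc).2 ⟨_, rfl⟩) e]
  have hv0out : ∀ x, v0 x ≠ 0 → ∃ u ∈ Ug D F, ∃ h ∈ Hg D F, x = u * h := by
    intro x hx
    by_contra hn
    refine hx (dif_neg ?_)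
    rintro ⟨c, u, hu, e⟩
    exact hn ⟨u, hu, _, (mem_hg_iff hc).2 ⟨c, rfl⟩, e⟩
  have hv0fix : Fixed (lam D F k) v0 := by
    intro a ha
    funext x
    show v0 (a⁻¹ * x) = v0 x
    by_cases h1 : ∃ u ∈ Ug D F, ∃ h ∈ Hg D F, x = u * h
    · obtain ⟨u, hu, h, hh, rfl⟩ := h1
      rw [← mul_assoc, hv0val _ (mul_mem (inv_mem ha) hu) h hh, hv0val u hu h hh]
    · rw [by_contra fun hne => h1 (hv0out x hne)]
      refine by_contra fun hne => h1 ?_
      obtain ⟨u, hu, h, hh, e⟩ := hv0out _ hne
      exact ⟨a * u, mul_mem ha hu, h, hh, by rw [mul_assoc, ← e, mul_inv_cancel_left]⟩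
  have hv0H : ∀ a ∈ Hg D F, lam D F k a v0 = χ0 a • v0 := by
    intro a ha
    funext x
    show v0 (a⁻¹ * x) = χ0 a * v0 x
    by_cases h1 : ∃ u ∈ Ug D F, ∃ h ∈ Hg D F, x = u * h
    · obtain ⟨u, hu, h, hh, rfl⟩ := h1
      have h2 := hg_normalizes hc _ (inv_mem ha) hu
      rw [show a⁻¹ * (u * h) = (a⁻¹ * u * a⁻¹⁻¹) * (a⁻¹ * h) by group,
        hv0val _ h2 _ (mul_mem (inv_mem ha) hh), hv0val u hu h hh]
      have h3 := hχ0mul a ha _ (mul_mem (inv_mem ha) hh)
      rw [mul_inv_cancel_left] at h3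
      rw [h3, mul_inv, ← mul_assoc, mul_inv_cancel₀ (hχ0ne a ha), one_mul]
    · rw [by_contra fun hne => h1 (hv0out x hne), mul_zero]
      refine by_contra fun hne => h1 ?_
      obtain ⟨u, hu, h, hh, e⟩ := hv0out _ hne
      exact ⟨a * u * a⁻¹, hg_normalizes hc _ ha hu, a * h, mul_mem ha hh,
        by rw [show a * u * a⁻¹ * (a * h) = a * (u * h) by group, ← e, mul_inv_cancel_left]⟩
  have hv0one : v0 1 = 1 := by
    have h := hv0val 1 (one_mem _) 1 (one_mem _)
    rw [one_mul] at h
    rw [h]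
    show (chiOf hc w (n0 * 1 * n0⁻¹))⁻¹ = 1
    rw [mul_one, mul_inv_cancel, chiOf_one hc hinj, inv_one]
  -- the summands
  let InK : List (Fin D.rank) → Prop := fun M => ∀ i ∈ M, (w i).getD 1 = 1 ∧ w i ≠ none
  let E : List (Fin D.rank) → (↥(D.group F) → k) := fun M => wOp hc (lam D F k) (M ++ L0) v0
  have hInK : ∀ M, InK M → ∀ i ∈ M, (w i).getD 1 = 1 := fun M hM i hi => (hM i hi).1
  have hcong : ∀ (L M : List (Fin D.rank)), (∀ r, r < D.nroots → sigs D T L r = sigs D T M r) →
      wOp hc (lam D F k) L v0 = χ0 ((nW hc M)⁻¹ * nW hc L) • wOp hc (lam D F k) M v0 := by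
    intro L M h
    rw [wOp_congr hc h, hv0H _ (nW_div_mem hc h), map_smul]
  have hcoh : ∀ M M', InK M → InK M' → (∀ r, r < D.nroots → sigs D T M r = sigs D T M' r) →
      E M = E M' := by
    intro M M' hM hM' h
    show wOp hc (lam D F k) (M ++ L0) v0 = wOp hc (lam D F k) (M' ++ L0) v0
    rw [hcong (M ++ L0) (M' ++ L0) (fun r hr => by
      rw [sigs_append, sigs_append, h _ (sigs_lt hc L0 hr)])]
    have e : χ0 ((nW hc (M' ++ L0))⁻¹ * nW hc (M ++ L0)) = 1 := by
      simp only [hχ0]
      rw [nW_append, nW_append, ← hn0,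
        show n0 * ((nW hc M' * n0)⁻¹ * (nW hc M * n0)) * n0⁻¹ = (nW hc M')⁻¹ * nW hc M by group]
      exact chiOf_nW_div hc hinj w (hInK M hM) (hInK M' hM') h
    rw [e, one_smul]
  have hEfix : ∀ L, Fixed (lam D F k) (wOp hc (lam D F k) L v0) := fun L => fixed_wOp hc hcomm L hv0fix
  have hEH : ∀ L, ∀ h ∈ Hg D F, lam D F k h (wOp hc (lam D F k) L v0) =
      chiOf hc w (n0 * ((nW hc L)⁻¹ * h * nW hc L) * n0⁻¹) • wOp hc (lam D F k) L v0 := by
    intro L h hh
    rw [wOp_torus hc L hh, hv0H _ (nW_conj_mem' hc L hh), map_smul]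
  have hsgn : ∀ (M : List (Fin D.rank)) (i : Fin D.rank),
      D.nroots / 2 ≤ sigs D T (M ++ L0).reverse (D.simple i.val) ↔
        sigs D T M.reverse (D.simple i.val) < D.nroots / 2 := by
    intro M i
    rw [List.reverse_append, sigs_append, ← not_lt, hflip _ (sigs_lt hc _ (simple_lt hc i.2)), not_le]
  have hflipi : ∀ (M : List (Fin D.rank)) (i : Fin D.rank),
      (sigs D T (i :: M).reverse (D.simple i.val) < D.nroots / 2 ↔
        ¬ sigs D T M.reverse (D.simple i.val) < D.nroots / 2) := by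
    intro M i
    rw [List.reverse_cons, sigs_append]
    show sigs D T M.reverse (sig D T i (D.simple i.val)) < D.nroots / 2 ↔ _
    rw [sig_simple hc, sigs_neg hc _ (simple_lt hc i.2),
      sig_neg_iff hc (sigs_lt hc _ (simple_lt hc i.2)), not_lt]
  have hchiM : ∀ M, InK M → ∀ h ∈ Hg D F, chiOf hc w ((nW hc M)⁻¹ * h * nW hc M) = chiOf hc w h := by
    intro M hM h hh
    conv_rhs => rw [show h = nW hc M * ((nW hc M)⁻¹ * h * nW hc M) * (nW hc M)⁻¹ by group,
      chiOf_conj_nW hc hinj w M (hInK M hM) _ (nW_conj_mem' hc M hh)]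
  have hEM : ∀ M, InK M → ∀ h ∈ Hg D F, lam D F k h (E M) = chiOf hc w h • E M := by
    intro M hM h hh
    show lam D F k h (wOp hc (lam D F k) (M ++ L0) v0) = _
    rw [hEH _ h hh, nW_append, ← hn0, show n0 * ((nW hc M * n0)⁻¹ * h * (nW hc M * n0)) * n0⁻¹ =
      (nW hc M)⁻¹ * h * nW hc M by group, hchiM M hM h hh]
  -- the action of a reflection
  have hneg : ∀ M i, InK M → (w i).getD 1 = 1 ∧ w i ≠ none →
      sigs D T M.reverse (D.simple i.val) < D.nroots / 2 →
        rOp hc (lam D F k) i (E M) = E (i :: M) := fun M i _ _ h =>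
    wOp_step hc hcomm i (M ++ L0) ((hsgn M i).2 h) v0
  have hpos : ∀ M i, InK M → ¬ sigs D T M.reverse (D.simple i.val) < D.nroots / 2 →
      rOp hc (lam D F k) i (E M) = (if (w i).getD 1 = 1 then (-1 : k) else 0) • E M := by
    intro M i hM h
    set z := E (i :: M) with hz
    have hstep : rOp hc (lam D F k) i z =
        χ0 ((nW hc (M ++ L0))⁻¹ * nW hc (i :: i :: (M ++ L0))) • E M := by
      rw [hz]
      show rOp hc (lam D F k) i (wOp hc (lam D F k) (i :: (M ++ L0)) v0) = _
      rw [wOp_step hc hcomm i (i :: (M ++ L0)) ((hsgn (i :: M) i).2 ((hflipi M i).2 h)),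
        hcong (i :: i :: (M ++ L0)) (M ++ L0) fun r hr => sig_sig hc i (sigs_lt hc _ hr)]
    have hψ : ∀ t, lam D F k (hG hc i t) z = chiW w i t⁻¹ • z := by
      intro t
      rw [hz]
      show lam D F k _ (wOp hc (lam D F k) (i :: M ++ L0) v0) = _
      rw [hEH _ _ (hG_mem hc i t), nW_append, nW_cons, ← hn0]
      congr 1
      rw [show n0 * ((nG hc i 1 * nW hc M * n0)⁻¹ * hG hc i t * (nG hc i 1 * nW hc M * n0)) * n0⁻¹ =
        (nW hc M)⁻¹ * ((nG hc i 1)⁻¹ * hG hc i t * nG hc i 1) * nW hc M by group]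
      have e : (nG hc i (1 : F))⁻¹ * hG hc i t * nG hc i 1 = hG hc i t⁻¹ := by
        have h1 : nG hc i (1 : F) * hG hc i t⁻¹ * (nG hc i 1)⁻¹ = hG hc i t := Subtype.ext (by
          show elN D F (D.simple i.val) 1 * torus D T F (corChar D T (D.simple i.val) t⁻¹) *
            (elN D F (D.simple i.val) 1)⁻¹ = torus D T F (corChar D T (D.simple i.val) t)
          rw [nOne_conj_torus hc, reflChar_corChar hc, inv_inv])
        rw [← h1]
        group
      rw [e, hchiM M hM _ (hG_mem hc i _), chiOf_hG hc hinj]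
    have hzh : HEig (lam D F k) z := heig_of_hG hc fun j t => ⟨_, hEH _ _ (hG_mem hc j t)⟩
    have hr := rOp_rOp hc p i (hEfix _) (fun t => chiW w i t⁻¹) hψ (nn_eig hc i hzh)
    rw [hstep, map_smul] at hr
    have hsum : (∑ t : Fˣ, chiW w i t⁻¹) = if (w i).getD 1 = 1 then (-1 : k) else 0 := by
      rw [← sum_hom_cases hc p ((w i).getD 1)]
      exact Fintype.sum_equiv (Equiv.inv Fˣ) _ _ fun t => rfl
    rw [hsum, smul_comm] at hr
    refine smul_right_injective _ ?_ hr
    exact hχ0ne _ (nW_div_mem hc fun r hr' => sig_sig hc i (sigs_lt hc _ hr'))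
  -- the sum over the parabolic Weyl group
  let S : Finset (Fin D.nroots → Fin D.nroots) := Finset.univ.filter fun f =>
    ∃ M, InK M ∧ ∀ r : Fin D.nroots, sigs D T M r = f r
  have hSmem : ∀ f, f ∈ S → ∃ M, InK M ∧ ∀ r : Fin D.nroots, sigs D T M r = f r := fun f hf =>
    (Finset.mem_filter.1 hf).2
  choose rep hrepK hrep using hSmem
  let pf : List (Fin D.rank) → (Fin D.nroots → Fin D.nroots) := fun M r =>
    ⟨sigs D T M r, sigs_lt hc M r.2⟩
  have hpfS : ∀ M, InK M → pf M ∈ S := fun M hM =>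
    Finset.mem_filter.2 ⟨Finset.mem_univ _, M, hM, fun _ => rfl⟩
  have hrep_pf : ∀ M (hM : InK M), ∀ r, r < D.nroots →
      sigs D T (rep (pf M) (hpfS M hM)) r = sigs D T M r := fun M hM r hr => hrep _ _ ⟨r, hr⟩
  let y : ↥(D.group F) → k := ∑ f : S, E (rep f.1 f.2)
  have hEK : ∀ f : S, InK (rep f.1 f.2) := fun f => hrepK _ _
  refine ⟨y, ?_, fun u hu => ?_, fun i t => ?_, fun i => ?_⟩
  · intro h0
    have hnil : InK [] := fun i hi => by simp at hi
    let f0 : S := ⟨pf [], hpfS [] hnil⟩
    set L := rep f0.1 f0.2 ++ L0 with hL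
    have h1 : y (nW hc L) = 0 := by rw [h0]; rfl
    have hsumx : ∀ (L' : List (Fin D.rank)) (x : ↥(D.group F)), wOp hc (lam D F k) L' v0 x =
        letI := Fintype.ofFinite ↥(Uw D T F L')
        ∑ u : ↥(Uw D T F L'), v0 (((u : ↥(D.group F)) * nW hc L')⁻¹ * x) := by
      intro L' x
      rw [wOp, LinearMap.sum_apply, Finset.sum_apply]
      rfl
    simp only [y, Finset.sum_apply] at h1
    rw [Finset.sum_eq_single f0] at h1
    · change wOp hc (lam D F k) L v0 (nW hc L) = 0 at h1
      rw [hsumx] at h1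
      letI := Fintype.ofFinite ↥(Uw D T F L)
      rw [Finset.sum_eq_single (1 : ↥(Uw D T F L))] at h1
      · simp [hv0one] at h1
      · intro u _ hu
        refine by_contra fun hne => hu ?_
        obtain ⟨a, ha, b, hb, e⟩ := hv0out _ hne
        have hn : (nW hc L)⁻¹ * (u : ↥(D.group F))⁻¹ * nW hc L ∈ Ug' D F :=
          nW_conj_gen' hc L (fun r _ hP => hP.2) (inv_mem u.2)
        rw [mul_inv_rev] at e
        have hB : (((nW hc L)⁻¹ * (u : ↥(D.group F))⁻¹ * nW hc L : ↥(D.group F)) : GL D.Idx F) ∈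
            D.borelSubgroup F := by
          rw [e]
          exact mul_mem (pos_le_borel hc (Subgroup.mem_subgroupOf.1 ha))
            (diagonal_le_borel hc (Subgroup.mem_subgroupOf.1 hb))
        have h2 := borel_inf_neg hc hB (Subgroup.mem_subgroupOf.1 hn)
        have h3 : (nW hc L)⁻¹ * (u : ↥(D.group F))⁻¹ * (nW hc L)⁻¹⁻¹ = 1 := by
          rw [inv_inv]; exact Subtype.ext h2
        exact Subtype.ext (inv_eq_one.1 (conj_eq_one_iff.1 h3))
      · simp
    · intro f _ hf
      change wOp hc (lam D F k) (rep f.1 f.2 ++ L0) v0 (nW hc L) = 0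
      set L' := rep f.1 f.2 ++ L0 with hL'
      rw [hsumx]
      letI := Fintype.ofFinite ↥(Uw D T F L')
      refine Finset.sum_eq_zero fun u _ => by_contra fun hne => hf ?_
      obtain ⟨a, ha, b, hb, e⟩ := hv0out _ hne
      have haU : b⁻¹ * a * b ∈ Ug D F := by
        simpa using hg_normalizes hc _ (inv_mem hb) ha
      obtain ⟨c, hcK, d, hdI, e2⟩ := uGen_split hc hcomm (closedPos_pos hc)
        (Q := KeepRoot D T L') (R := InvRoot D T L')
        (fun r _ hp => (Nat.lt_or_ge (sigs D T L' r) (D.nroots / 2)).symm.imp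
          (fun g => ⟨hp, g⟩) (fun g => ⟨hp, g⟩)) (Subgroup.mem_subgroupOf.1 haU)
      have ecalc : (1 : GL D.Idx F) * (1 * nProd D F L) * 1 =
          ((u : ↥(D.group F)) : GL D.Idx F) *
            (nProd D F L' * (b : GL D.Idx F) * (nProd D F L')⁻¹ *
              (nProd D F L' * c * (nProd D F L')⁻¹) *
              (nProd D F L' * (b : GL D.Idx F) * (nProd D F L')⁻¹)⁻¹) *
            (nProd D F L' * (b : GL D.Idx F) * (nProd D F L')⁻¹ * nProd D F L') * d := by
        have e3 : nW hc L = (u : ↥(D.group F)) * nW hc L' * (a * b) := by rw [← e]; group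
        have e4 : nProd D F L = ((u : ↥(D.group F)) : GL D.Idx F) * nProd D F L' *
            ((a : GL D.Idx F) * (b : GL D.Idx F)) := congrArg Subtype.val e3
        have e5 : (a : GL D.Idx F) * (b : GL D.Idx F) = (b : GL D.Idx F) * (c * d) := by
          rw [← e2]
          show _ = (b : GL D.Idx F) * ((b : GL D.Idx F)⁻¹ * (a : GL D.Idx F) * (b : GL D.Idx F))
          group
        rw [one_mul, one_mul, mul_one, e4, e5]
        group
      have hk := nProd_conj_diagonal hc (F := F) L' (Subgroup.mem_subgroupOf.1 hb)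
      have hperm := (Chev.bruhat_unique hc (one_mem _) hk (one_mem _)
        (mul_mem (uInv_le_pos hc _ (Subgroup.mem_subgroupOf.1 u.2))
          (diag_conj_mem hc _ hk (nProd_conj_keep hc L' hcK))) (one_mem _) hdI ecalc).1
      refine Subtype.ext (funext fun r => Fin.ext ?_)
      have h5 := hperm (sigs D T L0.reverse r.1) (sigs_lt hc _ r.2)
      have h6 := sigs_reverse hc L0.reverse r.2
      rw [List.reverse_reverse] at h6
      rw [hL, hL', sigs_append, sigs_append, h6, hrep, hrep] at h5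
      exact h5.symm
    · simp
  · simp only [y, map_sum]
    exact Finset.sum_congr rfl fun f _ => hEfix _ u hu
  · simp only [y, map_sum, Finset.smul_sum]
    refine Finset.sum_congr rfl fun f _ => ?_
    rw [hEM _ (hEK f) _ (hG_mem hc i t), chiOf_hG hc hinj]
  · by_cases hiK : (w i).getD 1 = 1 ∧ w i ≠ none
    · rw [show muW w i = (0 : k) by
        rcases hw : w i with _ | x
        · exact absurd hw hiK.2
        · simp [muW, hw], zero_smul]
      simp only [y, map_sum]
      let neg : S → Prop := fun f => sigs D T (rep f.1 f.2).reverse (D.simple i.val) < D.nroots / 2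
      rw [← Finset.sum_filter_add_sum_filter_not Finset.univ neg]
      have hcons : ∀ f : S, InK (i :: rep f.1 f.2) := fun f j hj => by
        rcases List.mem_cons.1 hj with rfl | hj
        · exact hiK
        · exact hEK f j hj
      let s : S → S := fun f => ⟨pf (i :: rep f.1 f.2), hpfS _ (hcons f)⟩
      have hsp : ∀ f : S, ∀ r, r < D.nroots →
          sigs D T (rep (s f).1 (s f).2) r = sigs D T (i :: rep f.1 f.2) r := fun f r hr =>
        hrep_pf _ (hcons f) r hr
      have hsneg : ∀ f, neg (s f) ↔ ¬ neg f := fun f => by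
        show sigs D T _ _ < _ ↔ _
        rw [sigs_rev_congr hc (hsp f) (simple_lt hc i.2)]
        exact hflipi _ i
      have hss : ∀ f, s (s f) = f := fun f => Subtype.ext (funext fun r => Fin.ext (by
        show sig D T i (sigs D T (rep (s f).1 (s f).2) r) = _
        rw [hsp f r r.2]
        show sig D T i (sig D T i (sigs D T _ r)) = _
        rw [sig_sig hc i (sigs_lt hc _ r.2), hrep]))
      have hA : ∑ f ∈ Finset.univ.filter neg, rOp hc (lam D F k) i (E (rep f.1 f.2)) =
          ∑ f ∈ Finset.univ.filter (fun f => ¬ neg f), E (rep f.1 f.2) := by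
        refine Finset.sum_bij (fun f _ => s f) (fun f hf => ?_) (fun f _ g _ e => ?_) (fun f hf => ?_)
          fun f hf => ?_
        · simp only [Finset.mem_filter, Finset.mem_univ, true_and] at hf ⊢
          exact fun h => (hsneg f).1 h hf
        · rw [← hss f, e, hss]
        · simp only [Finset.mem_filter, Finset.mem_univ, true_and] at hf
          exact ⟨s f, Finset.mem_filter.2 ⟨Finset.mem_univ _, (hsneg f).2 hf⟩, hss f⟩
        · rw [hneg _ i (hEK f) hiK (Finset.mem_filter.1 hf).2]
          exact (hcoh _ _ (hEK (s f)) (hcons f) (hsp f)).symm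
      rw [hA, ← Finset.sum_add_distrib]
      refine Finset.sum_eq_zero fun f hf => ?_
      rw [hpos _ i (hEK f) (Finset.mem_filter.1 hf).2, if_pos hiK.1, neg_one_smul, add_neg_cancel]
    · have hμ : muW w i = if (w i).getD 1 = 1 then (-1 : k) else 0 := by
        rcases hw : w i with _ | x
        · simp [muW, hw]
        · rw [hw] at hiK
          simp only [muW, hw, Option.getD_some]
          rw [if_neg (by simp), if_neg fun h : x = 1 => hiK ⟨h, by simp⟩]
      simp only [y, map_sum, Finset.smul_sum]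
      refine Finset.sum_congr rfl fun f _ => ?_
      rw [hμ]
      refine hpos _ i (hEK f) ?_
      rw [not_lt]
      have hp := simple_lt hc i.2
      by_contra hlt
      rw [not_le] at hlt
      let J : List (Fin D.rank) := rep f.1 f.2
      have hiJ : i ∉ J := fun h => hiK (hEK f i h)
      have h1 : rv D T (sigs D T J.reverse (D.simple i.val)) i = 1 := by
        rw [rv_sigs hc J.reverse hp, refls_off (J := J) (fun j hj => List.mem_reverse.1 hj) hiJ,
          rv_simple hc, Pi.single_eq_same]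
      have := nonpos_of_neg hc (sigs_lt hc _ hp) hlt i
      rw [h1] at this
      omega

/-- every weight is the weight of a simple module -/
theorem exists_irred_wt (w : Wt D F k) :
    ∃ (V : Type (max u v)) (_ : AddCommGroup V) (_ : Module k V) (_ : FiniteDimensional k V)
      (σ : Representation k ↥(D.group F) V) (y : V), IsIrred σ ∧ IsWtVec hc σ w y := by
  obtain ⟨y, hy⟩ := exists_wtVec_lam hc hinj hcomm p w
  haveI : Finite (GL D.Idx F) := inferInstance
  haveI : Fintype ↥(D.group F) := Fintype.ofFinite _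
  set M := Submodule.span k (Set.range fun u : Ug' D F => lam D F k (u : ↥(D.group F)) y) with hM
  have hMi : Invar (lam D F k) M := span_um_invar hc hcomm hy
  have hyM : y ∈ M := Submodule.subset_span ⟨1, by simp⟩
  obtain ⟨N, ⟨hNM, hNi, hNy⟩, hmax⟩ := (wellFounded_gt (α := Submodule k (↥(D.group F) → k))).has_min
    {N | N ≤ M ∧ Invar (lam D F k) N ∧ y ∉ N}
    ⟨⊥, bot_le, fun g v hv => by rw [Submodule.mem_bot] at hv ⊢; rw [hv, map_zero],
      fun h => hy.1 ((Submodule.mem_bot k).1 h)⟩
  let N' : Submodule k M := N.comap M.subtype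
  let σ0 : Representation k ↥(D.group F) M :=
    { toFun := fun g => (lam D F k g).restrict (hMi g)
      map_one' := LinearMap.ext fun v => Subtype.ext (by
        show lam D F k 1 v.1 = v.1; rw [map_one]; rfl)
      map_mul' := fun a b => LinearMap.ext fun v => Subtype.ext (by
        show lam D F k (a * b) v.1 = _; rw [map_mul]; rfl) }
  have hN' : ∀ g, N' ≤ N'.comap (σ0 g) := fun g v hv => hNi g _ hv
  let σ : Representation k ↥(D.group F) (M ⧸ N') :=
    { toFun := fun g => N'.mapQ N' (σ0 g) (hN' g)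
      map_one' := Submodule.linearMap_qext _ (LinearMap.ext fun v => by
        show Submodule.Quotient.mk (σ0 1 v) = Submodule.Quotient.mk v
        rw [map_one]; rfl)
      map_mul' := fun a b => Submodule.linearMap_qext _ (LinearMap.ext fun v => by
        show Submodule.Quotient.mk (σ0 (a * b) v) = Submodule.Quotient.mk (σ0 a (σ0 b v))
        rw [map_mul]; rfl) }
  let q : M →ₗ[k] M ⧸ N' := N'.mkQ
  let z : M ⧸ N' := q ⟨y, hyM⟩
  have hz : IsWtVec hc σ w z := by
    refine ⟨fun h => hNy ((Submodule.Quotient.mk_eq_zero N').1 h), fun u hu => ?_, fun i t => ?_, fun i => ?_⟩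
    · show q (σ0 u ⟨y, hyM⟩) = _
      congr 1; exact Subtype.ext (hy.2.1 u hu)
    · show q (σ0 (hG hc i t) ⟨y, hyM⟩) = _
      rw [show σ0 (hG hc i t) ⟨y, hyM⟩ = chiW w i t • ⟨y, hyM⟩ from Subtype.ext (hy.2.2.1 i t), map_smul]
    · rw [rOp, LinearMap.sum_apply]
      show ∑ s, q (σ0 _ ⟨y, hyM⟩) = _
      rw [← map_sum, show ∑ s, σ0 (xG hc (simple_lt hc i.2) s * nG hc i 1) ⟨y, hyM⟩ =
        muW w i • ⟨y, hyM⟩ from Subtype.ext (by
          rw [Submodule.coe_sum, SetLike.val_smul, ← hy.2.2.2 i, rOp, LinearMap.sum_apply]; rfl), map_smul]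
  refine ⟨M ⧸ N', inferInstance, inferInstance, inferInstance, σ, z, ⟨⟨z, hz.1⟩, fun W hW => ?_⟩, hz⟩
  let P : Submodule k (↥(D.group F) → k) := (W.comap q).map M.subtype
  have hNP : N ≤ P := fun v hv => ⟨⟨v, hNM hv⟩, by
    show q _ ∈ W
    rw [show q ⟨v, hNM hv⟩ = 0 from (Submodule.Quotient.mk_eq_zero N').2 hv]
    exact W.zero_mem, rfl⟩
  have hPi : Invar (lam D F k) P := by
    rintro g _ ⟨v, hv, rfl⟩
    exact ⟨σ0 g v, hW g _ hv, rfl⟩
  have hPM : P ≤ M := Submodule.map_subtype_le M _
  by_cases hyP : y ∈ P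
  · right
    have hle : M ≤ P := Submodule.span_le.2 (by
      rintro _ ⟨u, rfl⟩
      exact hPi _ _ hyP)
    refine eq_top_iff.2 fun x _ => ?_
    obtain ⟨m, rfl⟩ := Submodule.Quotient.mk_surjective N' x
    obtain ⟨v, hv, hvm⟩ := hle m.2
    rw [show v = m from Subtype.ext hvm] at hv
    exact hv
  · left
    have hPN : P = N := by_contra fun hne =>
      hmax P ⟨hPM, hPi, hyP⟩ (lt_of_le_of_ne hNP (Ne.symm hne))
    refine (Submodule.eq_bot_iff _).2 fun x hx => ?_
    obtain ⟨m, rfl⟩ := Submodule.Quotient.mk_surjective N' x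
    exact (Submodule.Quotient.mk_eq_zero N').2 (show (m : ↥(D.group F) → k) ∈ N from hPN ▸ ⟨m, hx, rfl⟩)

omit [CharP k p] in
/-- **Steinberg.** The classes of elements of order prime to `p` number `q ^ l`. -/
theorem card_regular_classes {q : ℕ} (hq : Fintype.card F = q) :
    Nat.card {c : ConjClasses ↥(D.group F) //
      ∃ g : ↥(D.group F), ConjClasses.mk g = c ∧ (orderOf g).Coprime p} = q ^ D.rank := by
  let K := AlgebraicClosure (ZMod p)
  haveI : CharP K p := charP_of_injective_algebraMap (algebraMap (ZMod p) K).injective p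
  haveI : Finite (GL D.Idx F) := inferInstance
  haveI : Fintype ↥(D.group F) := Fintype.ofFinite _
  obtain ⟨n, d, ρ, hirr, hiso, hcomplete, hcount⟩ := exists_simples K ↥(D.group F) p
  rw [hcount]
  choose W Y hY using fun i => exists_wtVec (ρ := ρ i) hc hcomm p (hirr i).1
  have hbij : Function.Bijective W := by
    refine ⟨fun i j h => hiso i j ?_, fun w => ?_⟩
    · exact iso_of_wt hc hcomm p (hirr i) (hirr j) (hY i) (h ▸ hY j)
    · obtain ⟨V, _, _, _, σ, y, hσ, hy⟩ := exists_irred_wt (k := K) hc hinj hcomm p w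
      obtain ⟨i, hi⟩ := hcomplete V σ hσ
      obtain ⟨f, hf⟩ := hi.symm
      refine ⟨i, wt_unique hc hcomm p (hirr i) (hY i) (y' := f y) ⟨?_, fun u hu => ?_, fun j t => ?_, fun j => ?_⟩⟩
      · exact fun h => hy.1 ((LinearEquiv.map_eq_zero_iff f).1 h)
      · rw [← hf, hy.2.1 u hu]
      · rw [← hf, hy.2.2.1, map_smul]
      · rw [← map_smul f, ← hy.2.2.2, rOp, rOp, LinearMap.sum_apply, LinearMap.sum_apply, map_sum]
        exact Finset.sum_congr rfl fun s _ => (hf _ y).symm
  have h1 : n = Nat.card (Wt D F K) := by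
    rw [← Fintype.card_fin n, ← Nat.card_eq_fintype_card]
    haveI : Fintype (Wt D F K) := Fintype.ofSurjective W hbij.2
    exact Nat.card_congr (Equiv.ofBijective W hbij)
  rw [h1, Nat.card_fun, Nat.card_eq_fintype_card (α := Fin D.rank),
    Fintype.card_fin, Finite.card_option]
  congr 1
  haveI hpu : ¬ p ∣ Fintype.card Fˣ := by
    rw [Fintype.card_units]
    intro h
    have h2 : p ∣ Fintype.card F := (CharP.cast_eq_zero_iff F p _).1 (Nat.cast_card_eq_zero F)
    have h3 := Nat.dvd_sub h2 h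
    rw [Nat.sub_sub_self (Fintype.card_pos)] at h3
    exact (Fact.out : p.Prime).ne_one (Nat.dvd_one.1 h3)
  haveI : NeZero ((Monoid.exponent Fˣ : ℕ) : K) := ⟨fun h => hpu
    (((CharP.cast_eq_zero_iff K p _).1 h).trans (Group.exponent_dvd_card))⟩
  rw [CommGroup.card_monoidHom_of_hasEnoughRootsOfUnity, Nat.card_eq_fintype_card, Fintype.card_units, hq]
  have := Fintype.card_pos (α := F)
  omega

end CfsgLib.ModularCount
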